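import Groth.Agent.SiteBase.Horseshoe
import Mathlib.CategoryTheory.Abelian.Refinements
import Mathlib.Algebra.Homology.ShortComplex.HomologicalComplex
import Mathlib.CategoryTheory.Limits.Preserves.Shapes.Kernels

/-!
# Homology of the image of a complex under a left exact functor

For a left exact additive `G` and a complex `K` of `G`-acyclic objects there is an exact sequence
`0 → R^1G(Z^k) → H^{k+1}(GK) → G(H^{k+1}K)`.
-/

set_option autoImplicit false
set_option backward.isDefEq.respectTransparency false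
set_option linter.unusedSectionVars false

universe v v' u u'

open CategoryTheory CategoryTheory.Limits

noncomputable section

namespace Groth.Agent.CompareSit

variable {A : Type u} [Category.{v} A] [Abelian A] {B : Type u'} [Category.{v'} B] [Abelian B]
  (G : A ⥤ B) [G.Additive] [PreservesFiniteLimits G]

/-- The image of a complex. -/
abbrev mapC (K : CochainComplex A ℕ) : CochainComplex B ℕ :=
  (G.mapHomologicalComplex (ComplexShape.up ℕ)).obj K

variable (K : CochainComplex A ℕ)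

/-- The boundaries, as the kernel of `Z → H`. -/
abbrev Bd (k : ℕ) : A := kernel (K.homologyπ k)

/-- `X^k → B^{k+1}`. -/
def toBd (k : ℕ) : K.X k ⟶ Bd K (k + 1) :=
  kernel.lift _ (K.toCycles k (k + 1)) (K.toCycles_comp_homologyπ k (k + 1))

lemma toBd_ι (k : ℕ) : toBd K k ≫ kernel.ι (K.homologyπ (k + 1)) = K.toCycles k (k + 1) :=
  kernel.lift_ι _ _ _

lemma toBd_ι_i (k : ℕ) :
    toBd K k ≫ kernel.ι (K.homologyπ (k + 1)) ≫ K.iCycles (k + 1) = K.d k (k + 1) := by
  rw [← Category.assoc, toBd_ι, HomologicalComplex.toCycles_i]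

/-- `0 → Z^k → X^k → B^{k+1} → 0`. -/
abbrev sesZ (k : ℕ) : ShortComplex A :=
  ShortComplex.mk (K.iCycles k) (toBd K k) (by
    rw [← cancel_mono (kernel.ι (K.homologyπ (k + 1)) ≫ K.iCycles (k + 1)), Category.assoc, zero_comp,
      toBd_ι_i, HomologicalComplex.iCycles_d])

lemma sesZ_shortExact (k : ℕ) : (sesZ K k).ShortExact := by
  have hm : Mono (kernel.ι (K.homologyπ (k + 1)) ≫ K.iCycles (k + 1)) := mono_comp _ _
  have hex : (sesZ K k).Exact := by
    rw [ShortComplex.exact_iff_exact_up_to_refinements]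
    intro A' x hx
    have hd : x ≫ K.d k (k + 1) = 0 := by
      rw [← toBd_ι_i, ← Category.assoc, (show x ≫ toBd K k = 0 from hx), zero_comp]
    exact ⟨A', 𝟙 _, inferInstance, K.liftCycles x (k + 1) (by simp) hd,
      (Category.id_comp _).trans (K.liftCycles_i _ _ _ _).symm⟩
  have hepi : Epi (toBd K k) := by
    rw [epi_iff_surjective_up_to_refinements]
    intro A' y
    have h := ((K.sc (k + 1)).exact_iff_exact_up_to_refinements)
    obtain ⟨A'', π, hπ, x, hx⟩ := (ShortComplex.exact_of_g_is_cokernel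
      (ShortComplex.mk _ _ (K.toCycles_comp_homologyπ k (k + 1)))
      (K.homologyIsCokernel k (k + 1) (by simp))).exact_up_to_refinements
      (y ≫ kernel.ι (K.homologyπ (k + 1))) (by rw [Category.assoc, kernel.condition, comp_zero])
    refine ⟨A'', π, hπ, x, ?_⟩
    rw [← cancel_mono (kernel.ι (K.homologyπ (k + 1))), Category.assoc, Category.assoc, toBd_ι]
    exact hx
  exact ShortComplex.ShortExact.mk' hex (inferInstanceAs (Mono (K.iCycles k))) hepi

/-- `0 → B^k → Z^k → H^k → 0`. -/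
abbrev sesH (k : ℕ) : ShortComplex A :=
  ShortComplex.mk _ _ (kernel.condition (K.homologyπ k))

lemma sesH_shortExact (k : ℕ) : (sesH K k).ShortExact :=
  ShortComplex.ShortExact.mk' (ShortComplex.exact_kernel _) (inferInstance) (inferInstance)

lemma isIso_kernel_ι_of_isZero (k : ℕ) (h : IsZero (K.homology k)) :
    IsIso (kernel.ι (K.homologyπ k)) := by
  rw [show K.homologyπ k = 0 from h.eq_of_tgt _ _]
  infer_instance

section

variable (k : ℕ)

/-- `Z(GK) → G Z(K)`. -/
def cyc : (mapC G K).cycles k ⟶ G.obj (K.cycles k) :=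
  KernelFork.IsLimit.lift' (KernelFork.mapIsLimit _ (K.cyclesIsKernel k (k + 1) (by simp)) G)
    ((mapC G K).iCycles k) ((mapC G K).iCycles_d k (k + 1)) |>.1

lemma cyc_i : cyc G K k ≫ G.map (K.iCycles k) = (mapC G K).iCycles k :=
  (KernelFork.IsLimit.lift' (KernelFork.mapIsLimit _ (K.cyclesIsKernel k (k + 1) (by simp)) G)
    ((mapC G K).iCycles k) ((mapC G K).iCycles_d k (k + 1))).2

instance isIso_cyc : IsIso (cyc G K k) := by
  have : G.PreservesMonomorphisms := inferInstance
  refine ⟨(mapC G K).liftCycles (G.map (K.iCycles k)) (k + 1) (by simp) ?_, ?_, ?_⟩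
  · show G.map (K.iCycles k) ≫ G.map (K.d k (k + 1)) = 0
    rw [← G.map_comp, HomologicalComplex.iCycles_d, G.map_zero]
  · rw [← cancel_mono ((mapC G K).iCycles k), Category.assoc, HomologicalComplex.liftCycles_i, cyc_i,
      Category.id_comp]
  · rw [← cancel_mono (G.map (K.iCycles k)), Category.assoc, cyc_i]
    exact (HomologicalComplex.liftCycles_i _ _ _ _ _).trans (Category.id_comp _).symm

lemma toCycles_cyc :
    (mapC G K).toCycles k (k + 1) ≫ cyc G K (k + 1) = G.map (K.toCycles k (k + 1)) := by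
  rw [← cancel_mono (G.map (K.iCycles (k + 1))), Category.assoc, cyc_i,
    HomologicalComplex.toCycles_i, ← G.map_comp, HomologicalComplex.toCycles_i]
  rfl

/-- The comparison `H^{k+1}(GK) → G H^{k+1}(K)`. -/
def edge : (mapC G K).homology (k + 1) ⟶ G.obj (K.homology (k + 1)) :=
  (CokernelCofork.IsColimit.desc' ((mapC G K).homologyIsCokernel k (k + 1) (by simp))
    (cyc G K (k + 1) ≫ G.map (K.homologyπ (k + 1))) (by
      rw [← Category.assoc, toCycles_cyc, ← G.map_comp, HomologicalComplex.toCycles_comp_homologyπ,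
        G.map_zero])).1

lemma π_edge : (mapC G K).homologyπ (k + 1) ≫ edge G K k =
    cyc G K (k + 1) ≫ G.map (K.homologyπ (k + 1)) :=
  (CokernelCofork.IsColimit.desc' ((mapC G K).homologyIsCokernel k (k + 1) (by simp))
    (cyc G K (k + 1) ≫ G.map (K.homologyπ (k + 1))) _).2

/-- `G B^{k+1} → H^{k+1}(GK)`. -/
def bdToHomology : G.obj (Bd K (k + 1)) ⟶ (mapC G K).homology (k + 1) :=
  G.map (kernel.ι (K.homologyπ (k + 1))) ≫ inv (cyc G K (k + 1)) ≫ (mapC G K).homologyπ (k + 1)

lemma toBd_bdToHomology : G.map (toBd K k) ≫ bdToHomology G K k = 0 := by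
  rw [bdToHomology, ← Category.assoc, ← G.map_comp, toBd_ι, ← toCycles_cyc, Category.assoc,
    IsIso.hom_inv_id_assoc, HomologicalComplex.toCycles_comp_homologyπ]

lemma bdToHomology_edge : bdToHomology G K k ≫ edge G K k = 0 := by
  rw [bdToHomology, Category.assoc, Category.assoc, π_edge, IsIso.inv_hom_id_assoc, ← G.map_comp,
    kernel.condition, G.map_zero]

lemma bdToHomology_exact :
    (ShortComplex.mk _ _ (toBd_bdToHomology G K k)).Exact := by
  have : G.PreservesMonomorphisms := inferInstance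
  rw [ShortComplex.exact_iff_exact_up_to_refinements]
  intro A' y hy
  have hy' : (y ≫ G.map (kernel.ι (K.homologyπ (k + 1))) ≫ inv (cyc G K (k + 1))) ≫
      (mapC G K).homologyπ (k + 1) = 0 := by
    simpa [bdToHomology, Category.assoc] using hy
  obtain ⟨A'', π, hπ, x, hx⟩ := (ShortComplex.exact_of_g_is_cokernel
    (ShortComplex.mk _ _ ((mapC G K).toCycles_comp_homologyπ k (k + 1)))
    ((mapC G K).homologyIsCokernel k (k + 1) (by simp))).exact_up_to_refinements _ hy'
  refine ⟨A'', π, hπ, x, ?_⟩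
  have h1 := congrArg (fun t => t ≫ cyc G K (k + 1)) hx
  simp only [Category.assoc, IsIso.inv_hom_id, Category.comp_id, toCycles_cyc] at h1
  show π ≫ y = x ≫ G.map (toBd K k)
  rw [← cancel_mono (G.map (kernel.ι (K.homologyπ (k + 1)))), Category.assoc, Category.assoc,
    ← G.map_comp, toBd_ι]
  exact h1

lemma edge_exact : (ShortComplex.mk _ _ (bdToHomology_edge G K k)).Exact := by
  have : Mono (sesH K (k + 1)).f := inferInstance
  have hG : ((sesH K (k + 1)).map G).Exact :=
    (sesH_shortExact K (k + 1)).exact.map_of_mono_of_preservesKernel G this inferInstance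
  rw [ShortComplex.exact_iff_exact_up_to_refinements]
  intro A' y hy
  obtain ⟨A₁, π₁, hπ₁, z, hz⟩ := surjective_up_to_refinements_of_epi ((mapC G K).homologyπ (k + 1)) y
  have hz' : (z ≫ cyc G K (k + 1)) ≫ G.map (K.homologyπ (k + 1)) = 0 := by
    rw [Category.assoc, ← π_edge, ← Category.assoc, ← hz, Category.assoc,
      (show y ≫ edge G K k = 0 from hy), comp_zero]
  obtain ⟨A₂, π₂, hπ₂, b, hb⟩ := hG.exact_up_to_refinements (z ≫ cyc G K (k + 1)) hz'
  refine ⟨A₂, π₂ ≫ π₁, epi_comp _ _, b, ?_⟩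
  have hb' : π₂ ≫ z ≫ cyc G K (k + 1) = b ≫ G.map (kernel.ι (K.homologyπ (k + 1))) := hb
  show (π₂ ≫ π₁) ≫ y = b ≫ bdToHomology G K k
  rw [Category.assoc, hz]
  unfold bdToHomology
  rw [← reassoc_of% hb', IsIso.hom_inv_id_assoc]

end

/-- The natural comparison for a natural transformation from the identity. -/
lemma homologyMap_edge (T : A ⥤ A) [T.Additive] [PreservesFiniteLimits T] (τ : 𝟭 A ⟶ T) (k : ℕ)
    (f : K ⟶ mapC T K) (hf : ∀ i, f.f i = τ.app (K.X i)) :
    HomologicalComplex.homologyMap f (k + 1) ≫ edge T K k = τ.app (K.homology (k + 1)) := by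
  rw [← cancel_epi (K.homologyπ (k + 1)), HomologicalComplex.homologyπ_naturality_assoc, π_edge]
  have h : HomologicalComplex.cyclesMap f (k + 1) ≫ cyc T K (k + 1) = τ.app (K.cycles (k + 1)) := by
    have : T.PreservesMonomorphisms := inferInstance
    rw [← cancel_mono (T.map (K.iCycles (k + 1))), Category.assoc, cyc_i,
      HomologicalComplex.cyclesMap_i, hf]
    exact τ.naturality (K.iCycles (k + 1))
  rw [reassoc_of% h]
  exact (τ.naturality (K.homologyπ (k + 1))).symm

section Derived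

variable [EnoughInjectives A]

/-- The complex consists of `G`-acyclic objects. -/
def Acyclic : Prop := ∀ i p : ℕ, IsZero ((G.rightDerived (p + 1)).obj (K.X i))

lemma acyclic_of_injective (h : ∀ i, Injective (K.X i)) : Acyclic G K := fun i p =>
  haveI := h i
  G.isZero_rightDerived_obj_injective_succ p (K.X i)

/-- `R^0 ≅ self`. -/
def r0 : G.rightDerived 0 ≅ G := G.rightDerivedZeroIsoSelf

/-- `R^p G` vanishes on the cokernel. -/
lemma isZero_X₃ {S : ShortComplex A} (hS : S.ShortExact) (p : ℕ)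
    (h₂ : IsZero ((G.rightDerived p).obj S.X₂)) (h₁ : IsZero ((G.rightDerived (p + 1)).obj S.X₁)) :
    IsZero ((G.rightDerived p).obj S.X₃) :=
  ((SESResLib.derivedLES G).exact₃ S hS p (p + 1) rfl).isZero_X₂ (h₂.eq_of_src _ _) (h₁.eq_of_tgt _ _)

lemma isZero_X₂ {S : ShortComplex A} (hS : S.ShortExact) (p : ℕ)
    (h₁ : IsZero ((G.rightDerived p).obj S.X₁)) (h₃ : IsZero ((G.rightDerived p).obj S.X₃)) :
    IsZero ((G.rightDerived p).obj S.X₂) :=
  ((SESResLib.derivedLES G).exact₂ S hS p).isZero_X₂ (h₁.eq_of_src _ _) (h₃.eq_of_tgt _ _)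

variable {G K}

/-- Vanishing on the cycles. -/
lemma isZero_cycles (hX : Acyclic G K) {n : ℕ}
    (hH : ∀ k p, k + p + 1 ≤ n → IsZero ((G.rightDerived (p + 1)).obj (K.homology k))) :
    ∀ k p, k + p + 1 ≤ n → IsZero ((G.rightDerived (p + 1)).obj (K.cycles k)) := by
  intro k
  induction k with
  | zero =>
    intro p hp
    exact (hH 0 p hp).of_iso ((G.rightDerived (p + 1)).mapIso (asIso (K.homologyπ 0)))
  | succ k ih =>
    intro p hp
    refine isZero_X₂ G (sesH_shortExact K (k + 1)) _ ?_ (hH (k + 1) p hp)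
    exact isZero_X₃ G (sesZ_shortExact K k) _ (hX k p) (ih (p + 1) (by omega))

/-- `R^1 G(Z^k)` sits inside `H^{k+1}(GK)` as the kernel of the edge map. -/
theorem exists_R1_edge (hX : Acyclic G K) (k : ℕ) :
    ∃ (j : (G.rightDerived 1).obj (K.cycles k) ⟶ (mapC G K).homology (k + 1))
      (w : j ≫ edge G K k = 0), Mono j ∧ (ShortComplex.mk j (edge G K k) w).Exact := by
  let Δ := SESResLib.derivedLES G
  have hS := sesZ_shortExact K k
  let d : (G.rightDerived 0).obj (Bd K (k + 1)) ⟶ (G.rightDerived 1).obj (K.cycles k) :=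
    Δ.δ (sesZ K k) hS 0 1 rfl
  have hd : Epi d := (Δ.exact₁ (sesZ K k) hS 0 1 rfl).epi_f ((hX k 0).eq_of_tgt _ _)
  let d' : G.obj (Bd K (k + 1)) ⟶ (G.rightDerived 1).obj (K.cycles k) := (r0 G).inv.app _ ≫ d
  have hd' : Epi d' := epi_comp _ _
  have h0 : (G.rightDerived 0).map (toBd K k) ≫ d = 0 := Δ.comp_δ (sesZ K k) hS 0 1 rfl
  have hex : (ShortComplex.mk _ _ h0).Exact := Δ.exact₃ (sesZ K k) hS 0 1 rfl
  have w' : G.map (toBd K k) ≫ d' = 0 := by
    show G.map (toBd K k) ≫ (r0 G).inv.app _ ≫ d = 0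
    rw [(r0 G).inv.naturality_assoc, h0, comp_zero]
  have hex' : (ShortComplex.mk _ _ w').Exact := by
    refine ShortComplex.exact_of_iso (ShortComplex.isoMk (S₁ := ShortComplex.mk _ _ h0)
      (S₂ := ShortComplex.mk _ _ w') ((r0 G).app _) ((r0 G).app _) (Iso.refl _) ?_ ?_) hex
    · exact ((r0 G).hom.naturality (toBd K k)).symm
    · show (r0 G).hom.app _ ≫ (r0 G).inv.app _ ≫ d = d ≫ 𝟙 _
      rw [Iso.hom_inv_id_app_assoc, Category.comp_id]
  obtain ⟨j, hj⟩ := CokernelCofork.IsColimit.desc' hex'.gIsCokernel (bdToHomology G K k)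
    (toBd_bdToHomology G K k)
  have hj' : d' ≫ j = bdToHomology G K k := hj
  have w : j ≫ edge G K k = 0 := by
    rw [← cancel_epi d', ← Category.assoc, hj', bdToHomology_edge, comp_zero]
  refine ⟨j, w, ?_, ?_⟩
  · refine Preadditive.mono_of_cancel_zero _ fun {P} y hy => ?_
    obtain ⟨A₁, π₁, hπ₁, b, hb⟩ := surjective_up_to_refinements_of_epi d' y
    obtain ⟨A₂, π₂, hπ₂, x, hx⟩ := (bdToHomology_exact G K k).exact_up_to_refinements b
      (by show b ≫ bdToHomology G K k = 0; rw [← hj', ← Category.assoc, ← hb, Category.assoc, hy, comp_zero])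
    have : π₂ ≫ π₁ ≫ y = 0 := by
      rw [hb, ← Category.assoc, hx, Category.assoc, w', comp_zero]
    rw [← cancel_epi π₁, comp_zero, ← cancel_epi π₂, comp_zero]
    exact this
  · let φ : ShortComplex.mk _ _ (bdToHomology_edge G K k) ⟶ ShortComplex.mk j (edge G K k) w :=
      { τ₁ := d', τ₂ := 𝟙 _, τ₃ := 𝟙 _, comm₁₂ := by simp [hj'], comm₂₃ := by simp }
    have : Epi φ.τ₁ := hd'
    exact (ShortComplex.exact_iff_of_epi_of_isIso_of_mono φ).1 (edge_exact G K k)

/-- The comparison is injective when `R^pG(H^q K) = 0` for `p + q = n`, `p > 0`, and below. -/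
theorem mono_edge (hX : Acyclic G K) (k : ℕ)
    (hH : ∀ i p, i + p + 1 ≤ k + 1 → IsZero ((G.rightDerived (p + 1)).obj (K.homology i))) :
    Mono (edge G K k) := by
  obtain ⟨j, w, -, hex⟩ := exists_R1_edge hX k
  exact hex.mono_g ((isZero_cycles hX hH k 0 (by omega)).eq_of_src _ _)

/-- Shifting along an exact piece of the complex. -/
theorem nonempty_shift (hX : Acyclic G K) {k i : ℕ} (hz : IsZero (K.homology (k + 1))) :
    Nonempty ((G.rightDerived (i + 1)).obj (K.cycles (k + 1)) ≅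
      (G.rightDerived (i + 2)).obj (K.cycles k)) := by
  let Δ := SESResLib.derivedLES G
  have hS := sesZ_shortExact K k
  have := (Δ.exact₃ (sesZ K k) hS (i + 1) (i + 2) rfl).mono_g ((hX k i).eq_of_src _ _)
  have := (Δ.exact₁ (sesZ K k) hS (i + 1) (i + 2) rfl).epi_f ((hX k (i + 1)).eq_of_tgt _ _)
  have := isIso_of_mono_of_epi (Δ.δ (sesZ K k) hS (i + 1) (i + 2) rfl)
  have := isIso_kernel_ι_of_isZero K (k + 1) hz
  exact ⟨((G.rightDerived (i + 1)).mapIso (asIso (kernel.ι (K.homologyπ (k + 1))))).symm ≪≫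
    asIso (Δ.δ (sesZ K k) hS (i + 1) (i + 2) rfl)⟩

/-- `R^{i+1}G(Z^0) ≅ R^1 G(Z^i)` while the complex is exact. -/
theorem nonempty_shift_zero (hX : Acyclic G K) :
    ∀ (k i : ℕ), (∀ q, q + 1 ≤ k → IsZero (K.homology (q + 1))) →
      Nonempty ((G.rightDerived (i + 1)).obj (K.cycles k) ≅
        (G.rightDerived (i + k + 1)).obj (K.cycles 0)) := by
  intro k
  induction k with
  | zero => exact fun i _ => ⟨Iso.refl _⟩
  | succ k ih =>
    intro i h
    obtain ⟨e⟩ := nonempty_shift hX (i := i) (h k le_rfl)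
    obtain ⟨e'⟩ := ih (i + 1) fun q hq => h q (by omega)
    exact ⟨e ≪≫ e' ≪≫ eqToIso (by rw [show i + 1 + k + 1 = i + (k + 1) + 1 from by omega])⟩

variable (G K) in
/-- `H^0(GK) ≅ G H^0(K)`. -/
def homologyZeroIso : (mapC G K).homology 0 ≅ G.obj (K.homology 0) :=
  (asIso ((mapC G K).homologyπ 0)).symm ≪≫ asIso (cyc G K 0) ≪≫ G.mapIso (asIso (K.homologyπ 0))

/-- `R^{k+1}G(H^0 K)` is the kernel of the edge map when `K` is exact in degrees `1..k`. -/
theorem exists_edge_kernel (hX : Acyclic G K) (k : ℕ)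
    (h : ∀ q, q + 1 ≤ k → IsZero (K.homology (q + 1))) :
    ∃ (j : (G.rightDerived (k + 1)).obj (K.homology 0) ⟶ (mapC G K).homology (k + 1))
      (w : j ≫ edge G K k = 0), Mono j ∧ (ShortComplex.mk j (edge G K k) w).Exact := by
  obtain ⟨j, w, hj, hex⟩ := exists_R1_edge hX k
  obtain ⟨e₀⟩ := nonempty_shift_zero hX k 0 h
  let e : (G.rightDerived (k + 1)).obj (K.homology 0) ≅ (G.rightDerived 1).obj (K.cycles k) :=
    (G.rightDerived (k + 1)).mapIso (asIso (K.homologyπ 0)).symm ≪≫
      eqToIso (by rw [Nat.zero_add]) ≪≫ e₀.symm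
  refine ⟨e.hom ≫ j, by rw [Category.assoc, w, comp_zero], mono_comp _ _, ?_⟩
  exact ShortComplex.exact_of_iso (ShortComplex.isoMk (S₁ := ShortComplex.mk j (edge G K k) w)
    (S₂ := ShortComplex.mk (e.hom ≫ j) (edge G K k) _) e.symm (Iso.refl _) (Iso.refl _) (by simp) (by simp)) hex

/-- `H^i(GK) ≅ R^iG(H^0 K)` when `K` is exact in degrees `1..n`, `i ≤ n`. -/
theorem nonempty_homology_iso (hX : Acyclic G K) {n : ℕ}
    (h : ∀ q, q + 1 ≤ n → IsZero (K.homology (q + 1))) : ∀ i, i ≤ n →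
    Nonempty ((mapC G K).homology i ≅ (G.rightDerived i).obj (K.homology 0))
  | 0, _ => ⟨homologyZeroIso G K ≪≫ ((r0 G).app _).symm⟩
  | k + 1, hk => by
    obtain ⟨j, w, hj, hex⟩ := exists_edge_kernel hX k fun q hq => h q (by omega)
    have := hex.epi_f ((G.map_isZero (h k hk)).eq_of_tgt _ _)
    have := isIso_of_mono_of_epi j
    exact ⟨(asIso j).symm⟩

end Derived

end Groth.Agent.CompareSit
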