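import Groth.Agent.SiteBase.CompareSit.Concrete

/-!
# Equalised classes die on a covering of the base
-/

set_option autoImplicit false
set_option linter.unusedSectionVars false

universe u

open CategoryTheory CategoryTheory.Limits Opposite

noncomputable section

namespace Groth.Agent.CompareSit

variable {C : Type u} [SmallCategory C] {J J' : GrothendieckTopology C}
  {P : MorphismProperty C} {A' : ∀ X : C, ObjectProperty (Sheaf (J'.over X) AddCommGrpCat.{u})}
  [∀ X : C, WSerre.IsWeakSerre (A' X)] (d : Sit J J' P A')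

lemma res_comp_apply (J : GrothendieckTopology C) (F : Sheaf J AddCommGrpCat.{u}) (n : ℕ) {U V W : C}
    (f : V ⟶ U) (g : W ⟶ V) (x : CohSite.HU F n U) :
    CohSite.res F n (g ≫ f) x = CohSite.res F n g (CohSite.res F n f x) := by
  show ((Sheaf.cohomologyPresheaf.{u} F n).map (g ≫ f).op).hom x = _
  rw [op_comp, Functor.map_comp]
  rfl

include d in
/-- A compatible family in a presheaf with sheafification in the class dies locally if it dies on a covering. -/
lemma Sit.exists_cover_family {X Y : C} (f : X ⟶ Y)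
    (hcov : Sieve.ofArrows (fun _ : PUnit.{u + 1} => X) (fun _ => f) ∈ J Y)
    (Pr : (Over Y)ᵒᵖ ⥤ AddCommGrpCat.{u})
    (hN : A' Y ((presheafToSheaf (J'.over Y) AddCommGrpCat.{u}).obj Pr))
    (σ : ∀ V : Over Y, Pr.obj (op V)) (hσ : ∀ {V V' : Over Y} (g : V ⟶ V'), (Pr.map g.op).hom (σ V') = σ V)
    (S : Sieve (Over.mk f)) (hS : S ∈ (J'.over Y) (Over.mk f)) (hS0 : ∀ (V : Over Y) (g : V ⟶ Over.mk f), S g → σ V = 0) :
    ∃ R ∈ (J'.over Y) (Over.mk (𝟙 Y)), ∀ (V : Over Y) (g : V ⟶ Over.mk (𝟙 Y)), R g → σ V = 0 := by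
  let η := toSheafify (J'.over Y) Pr
  let N := (presheafToSheaf (J'.over Y) AddCommGrpCat.{u}).obj Pr
  have hnat : ∀ {V V' : Over Y} (g : V ⟶ V'),
      (N.obj.map g.op).hom ((η.app (op V')).hom (σ V')) = (η.app (op V)).hom (σ V) := fun g =>
    (ConcreteCategory.congr_hom (η.naturality g.op) (σ _)).symm.trans
      (congrArg (η.app (op _)).hom (hσ g))
  have hX : (η.app (op (Over.mk f))).hom (σ (Over.mk f)) = 0 :=
    separated N hS _ fun V g hg => (hnat g).trans ((congrArg (η.app (op V)).hom (hS0 V g hg)).trans (map_zero _))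
  have hY : (η.app (op (Over.mk (𝟙 Y)))).hom (σ (Over.mk (𝟙 Y))) = 0 := by
    let NJ : Sheaf (J.over Y) AddCommGrpCat.{u} := ⟨N.obj, d.h3 Y N hN⟩
    let i : Over.mk f ⟶ Over.mk (𝟙 Y) := Over.homMk f (Category.comp_id f)
    refine separated NJ (R := Sieve.ofArrows (fun _ : PUnit.{u + 1} => Over.mk f) (fun _ => i)) ?_ _ ?_
    · rw [GrothendieckTopology.mem_over_iff, Sieve.overEquiv_ofArrows]
      exact hcov
    · rintro W g ⟨W', b, _, ⟨⟨⟩⟩, rfl⟩
      rw [op_comp, NJ.obj.map_comp]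
      refine (congrArg (NJ.obj.map b.op).hom ?_).trans (map_zero _)
      exact (hnat i).trans hX
  have hloc : Presheaf.IsLocallyInjective (J'.over Y) η := inferInstance
  refine ⟨_, Presheaf.equalizerSieve_mem (J'.over Y) η (X := op (Over.mk (𝟙 Y))) (σ (Over.mk (𝟙 Y))) 0
      (hY.trans (map_zero _).symm), fun V g hg => ?_⟩
  exact (hσ g).symm.trans ((show (Pr.map g.op).hom (σ (Over.mk (𝟙 Y))) = (Pr.map g.op).hom 0 from hg).trans (map_zero _))

include d in
theorem Sit.killing {X Y : C} (f : X ⟶ Y) (hf : P f)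
    (hcov : Sieve.ofArrows (fun _ : PUnit.{u + 1} => X) (fun _ => f) ∈ J Y)
    (F' : Sheaf (J'.over Y) AddCommGrpCat.{u}) (hF' : A' Y F') (n : ℕ)
    (θ : CohSite.HU F' (n + 1) (Over.mk f))
    (hθ : ∀ (W : C) (p q : W ⟶ X) (hW : IsPullback p q f f),
      CohSite.res F' (n + 1) (Over.homMk p rfl : Over.mk (p ≫ f) ⟶ Over.mk f) θ =
        CohSite.res F' (n + 1) (Over.homMk q hW.w.symm : Over.mk (p ≫ f) ⟶ Over.mk f) θ) :
    ∃ (ι : Type u) (Z : ι → C) (g : ∀ i, Z i ⟶ Y), Sieve.ofArrows Z g ∈ J' Y ∧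
      ∀ (i : ι) (W : C) (p : W ⟶ Z i) (q : W ⟶ X), IsPullback p q (g i) f →
        CohSite.res F' (n + 1) (Over.homMk q rfl : Over.mk (q ≫ f) ⟶ Over.mk f) θ = 0 := by
  have : HasPullbacksAlong f := d.hasPullbacksAlong hf
  let T : Over Y ⥤ Over Y := Over.pullback f ⋙ Over.map f
  haveI : T.IsContinuous (J'.over Y) (J'.over Y) :=
    Functor.isContinuous_comp (Over.pullback f) (Over.map f) (J'.over Y) (J'.over X) (J'.over Y)
  let Pr : (Over Y)ᵒᵖ ⥤ AddCommGrpCat.{u} :=
    ((Sheaf.cohomologyPresheafFunctor.{u} (J'.over Y) (n + 1) ⋙ SiteBase.precomp T)).obj F'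
  let N := (presheafToSheaf (J'.over Y) AddCommGrpCat.{u}).obj Pr
  let eT : reloc J' f ≅ CohSite.push (J'.over Y) (J'.over Y) T :=
    Functor.sheafPushforwardContinuousComp (Over.pullback f) (Over.map f) AddCommGrpCat.{u}
      (J'.over Y) (J'.over X) (J'.over Y)
  have hN : A' Y N := (A' Y).prop_of_iso
    ((SiteBase.rightDerivedCongr eT (n + 1)).app F' ≪≫ (SiteBase.rpushIso (J'.over Y) (J'.over Y) T (n + 1)).app F')
    (d.prop_rightDerived_reloc f hf F' hF' (n + 1))
  -- the compatible family induced by `θ`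
  let ψ : ∀ V : Over Y, T.obj V ⟶ Over.mk f := fun V => Over.homMk (pullback.snd V.hom f)
  have hψ : ∀ {V V' : Over Y} (g : V ⟶ V'), T.map g ≫ ψ V' = ψ V := fun g => by
    apply Over.OverMorphism.ext
    exact pullback.lift_snd _ _ _
  let σ : ∀ V : Over Y, Pr.obj (op V) := fun V => CohSite.res F' (n + 1) (ψ V) θ
  have hσ : ∀ {V V' : Over Y} (g : V ⟶ V'), (Pr.map g.op).hom (σ V') = σ V := fun g =>
    (res_comp_apply (J'.over Y) F' (n + 1) (ψ _) (T.map g) θ).symm.trans
      (congrArg (fun t => CohSite.res F' (n + 1) t θ) (hψ g))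
  obtain ⟨S, hS, hS0⟩ := SiteBase.exists_cover_res_eq_zero F' (Over.mk f) n θ
  have hX : ∀ (V : Over Y) (g : V ⟶ Over.mk f), S g → σ V = 0 := fun V g hg => by
    let φ : T.obj V ⟶ V := Over.homMk (pullback.fst V.hom f) pullback.condition
    let φ₀ : T.obj (Over.mk f) ⟶ Over.mk f := Over.homMk (pullback.fst f f) pullback.condition
    have hφ : T.map g ≫ φ₀ = φ ≫ g := Over.OverMorphism.ext (pullback.lift_fst _ _ _)
    let i₁ : T.obj (Over.mk f) ⟶ Over.mk (pullback.fst f f ≫ f) :=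
      Over.homMk (𝟙 _) ((Category.id_comp _).trans pullback.condition)
    have hbase : σ (Over.mk f) = CohSite.res F' (n + 1) φ₀ θ := by
      have h := congrArg (CohSite.res F' (n + 1) i₁)
        (hθ _ (pullback.fst f f) (pullback.snd f f) (IsPullback.of_hasPullback f f))
      refine Eq.trans ?_ ((((res_comp_apply (J'.over Y) F' (n + 1) _ i₁ θ).trans h).trans
        (res_comp_apply (J'.over Y) F' (n + 1) _ i₁ θ).symm).symm.trans ?_)
      · exact congrArg (fun t => CohSite.res F' (n + 1) t θ) (Over.OverMorphism.ext (Category.id_comp _).symm)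
      · exact congrArg (fun t => CohSite.res F' (n + 1) t θ) (Over.OverMorphism.ext (Category.id_comp _))
    have h0 : (Pr.map g.op).hom (σ (Over.mk f)) = 0 := by
      rw [hbase]
      refine (res_comp_apply (J'.over Y) F' (n + 1) φ₀ (T.map g) θ).symm.trans ?_
      refine (congrArg (fun t => CohSite.res F' (n + 1) t θ) hφ).trans ?_
      refine (res_comp_apply (J'.over Y) F' (n + 1) g φ θ).trans ?_
      exact (congrArg (CohSite.res F' (n + 1) φ) (hS0 V g hg)).trans (map_zero _)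
    exact (hσ g).symm.trans h0
  obtain ⟨R, hR, hR0⟩ := d.exists_cover_family f hcov Pr hN σ hσ S hS hX
  let R₀ := Sieve.overEquiv (Over.mk (𝟙 Y)) R
  have hR₀ : R₀ ∈ J' Y := (J'.mem_over_iff R).1 hR
  refine ⟨Σ' Z : C, { g : Z ⟶ Y // R₀ g }, fun i => i.1, fun i => i.2.1,
    J'.superset_covering (fun Z g hg => ⟨Z, 𝟙 Z, g, ⟨(⟨Z, g, hg⟩ : Σ' Z : C, { g : Z ⟶ Y // R₀ g })⟩,
      Category.id_comp g⟩) hR₀, ?_⟩
  rintro ⟨Z, g, hg⟩ W p q hW
  let V : Over Y := Over.mk (g ≫ 𝟙 Y)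
  have h2 : σ V = 0 := hR0 V _ ((Sieve.overEquiv_iff R g).1 hg)
  have hW' : p ≫ (g ≫ 𝟙 Y) = q ≫ f := by rw [Category.comp_id]; exact hW.w
  let c : Over.mk (q ≫ f) ⟶ T.obj V :=
    Over.homMk (pullback.lift p q hW') (show pullback.lift p q hW' ≫ pullback.snd (g ≫ 𝟙 Y) f ≫ f = q ≫ f by
      rw [pullback.lift_snd_assoc])
  have hc : c ≫ ψ V = Over.homMk q rfl := Over.OverMorphism.ext (pullback.lift_snd _ _ _)
  rw [← hc, res_comp_apply]
  exact (congrArg (CohSite.res F' (n + 1) c) h2).trans (map_zero _)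

end Groth.Agent.CompareSit
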