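import Groth.Agent.SiteBase.CompareSit.Slices
import Groth.Agent.SiteBase.DerivedPrecomp
import Groth.Agent.SiteBase.Rpush
import Mathlib.CategoryTheory.Sites.SheafCohomology.Basic

/-!
# Vanishing of the higher direct images in a compare situation
-/

set_option autoImplicit false
set_option linter.unusedSectionVars false

universe u

open CategoryTheory CategoryTheory.Limits Opposite

noncomputable section

namespace Groth.Agent.CompareSit

variable {C : Type u} [SmallCategory C] {J J' : GrothendieckTopology C}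

/-- The hypotheses of a compare situation. -/
structure Sit (J J' : GrothendieckTopology C) (P : MorphismProperty C)
    (A' : ∀ X : C, ObjectProperty (Sheaf (J'.over X) AddCommGrpCat.{u})) : Prop where
  le : J' ≤ J
  h1 : ∀ ⦃X Y : C⦄ (f : X ⟶ Y), P f → ∀ ⦃Y' : C⦄ (g : Y' ⟶ Y),
      ∃ (W : C) (p : W ⟶ Y') (q : W ⟶ X), IsPullback p q g f ∧ P p
  h2 : ∀ ⦃X Y : C⦄ (f : X ⟶ Y) (F' : Sheaf (J'.over Y) AddCommGrpCat.{u}), A' Y F' →
      A' X ((CohSite.push (J'.over Y) (J'.over X) (Over.map f)).obj F')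
  h3 : ∀ (X : C) (F' : Sheaf (J'.over X) AddCommGrpCat.{u}), A' X F' → Presheaf.IsSheaf (J.over X) F'.obj
  h4 : ∀ ⦃X Y : C⦄ (f : X ⟶ Y)
      [((Over.map f).sheafPushforwardCocontinuous AddCommGrpCat.{u} (J'.over X) (J'.over Y)).Additive],
      P f → ∀ (F' : Sheaf (J'.over X) AddCommGrpCat.{u}), A' X F' → ∀ i : ℕ,
        A' Y ((((Over.map f).sheafPushforwardCocontinuous AddCommGrpCat.{u} (J'.over X) (J'.over Y)).rightDerived i).obj F')
  h5 : ∀ (U : C) (S : Sieve U), S ∈ J U → ∃ (ι : Type u) (V : ι → C) (v : ∀ j, V j ⟶ U),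
      Sieve.ofArrows V v ∈ J' U ∧ ∀ j, ∃ (W : C) (w : W ⟶ V j), P w ∧
        Sieve.ofArrows (fun _ : PUnit.{u + 1} => W) (fun _ => w) ∈ J (V j) ∧
        ∃ (κ : Type u) (Wk : κ → C) (wk : ∀ k, Wk k ⟶ W), Sieve.ofArrows Wk wk ∈ J' W ∧
          ∀ k, S.arrows (wk k ≫ w ≫ v j)

/-- The comparison functor over an object. -/
abbrev epsOv (h : J' ≤ J) (X : C) :
    Sheaf (J.over X) AddCommGrpCat.{u} ⥤ Sheaf (J'.over X) AddCommGrpCat.{u} :=
  SiteCmp.epsSh (SiteCmp.over_le h X) AddCommGrpCat.{u}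

/-- The comparison commutes with push-forwards along functors continuous for both topologies. -/
def pushEpsIso {D : Type u} [SmallCategory D] {K K' : GrothendieckTopology D} (hK : K' ≤ K) (hJ : J' ≤ J)
    (v : D ⥤ C) [v.IsContinuous K J] [v.IsContinuous K' J'] :
    CohSite.push J K v ⋙ SiteCmp.epsSh hK AddCommGrpCat.{u} ≅
      SiteCmp.epsSh hJ AddCommGrpCat.{u} ⋙ CohSite.push J' K' v :=
  NatIso.ofComponents (fun F =>
    { hom := ⟨{ app := fun U => 𝟙 (F.obj.obj (op (v.obj U.unop))),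
                naturality := fun U V i => (Category.comp_id _).trans (Category.id_comp _).symm }⟩
      inv := ⟨{ app := fun U => 𝟙 (F.obj.obj (op (v.obj U.unop))),
                naturality := fun U V i => (Category.comp_id _).trans (Category.id_comp _).symm }⟩
      hom_inv_id := Sheaf.hom_ext (NatTrans.ext (funext fun U => Category.comp_id _))
      inv_hom_id := Sheaf.hom_ext (NatTrans.ext (funext fun U => Category.comp_id _)) })
    (fun {F G} φ => Sheaf.hom_ext (NatTrans.ext (funext fun U =>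
      (Category.comp_id _).trans (Category.id_comp _).symm)))

variable {P : MorphismProperty C} {A' : ∀ X : C, ObjectProperty (Sheaf (J'.over X) AddCommGrpCat.{u})}
  [∀ X : C, WSerre.IsWeakSerre (A' X)] (d : Sit J J' P A')

include d in
lemma Sit.hasPullbacksAlong {X Y : C} {f : X ⟶ Y} (hf : P f) : HasPullbacksAlong f := fun {W} g => by
  obtain ⟨_, _, _, h, _⟩ := d.h1 f hf g
  exact h.hasPullback

include d in
lemma Sit.good (X : C) (M : Sheaf (J'.over X) AddCommGrpCat.{u}) (hM : A' X M) :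
    IsIso ((SiteCmp.epsShAdj (SiteCmp.over_le d.le X) AddCommGrpCat.{u}).unit.app M) :=
  isIso_unit_of_isSheaf _ M (d.h3 X M hM)

include d in
lemma Sit.prop_rightDerived_pushOv {X Y : C} (f : X ⟶ Y) [HasPullbacksAlong f] (hf : P f)
    (F' : Sheaf (J'.over X) AddCommGrpCat.{u}) (h : A' X F') (i : ℕ) :
    A' Y (((pushOv J' f).rightDerived i).obj F') := by
  haveI : ((Over.map f).sheafPushforwardCocontinuous AddCommGrpCat.{u} (J'.over X) (J'.over Y)).Additive :=
    Functor.additive_of_iso (cocontIso J' f).symm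
  exact (A' Y).prop_of_iso ((SiteBase.rightDerivedCongr (cocontIso J' f) i).app F') (d.h4 f hf F' h i)

include d in
lemma Sit.prop_rightDerived_reloc {X Y : C} (f : X ⟶ Y) [HasPullbacksAlong f] (hf : P f)
    (M : Sheaf (J'.over Y) AddCommGrpCat.{u}) (h : A' Y M) (i : ℕ) :
    A' Y (((reloc J' f).rightDerived i).obj M) :=
  (A' Y).prop_of_iso ((SiteBase.rightDerivedPrecompIso (pullOv J' f) (pushOv J' f) i).app M).symm
    (d.prop_rightDerived_pushOv f hf _ (d.h2 f M h) i)

/-- The relocalisations agree. -/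
def relocEpsIso (h : J' ≤ J) {X Y : C} (f : X ⟶ Y) [HasPullbacksAlong f] :
    reloc J f ⋙ epsOv h Y ≅ epsOv h Y ⋙ reloc J' f :=
  Functor.associator _ _ _ ≪≫
    Functor.isoWhiskerLeft _ (pushEpsIso (SiteCmp.over_le h Y) (SiteCmp.over_le h X) (Over.pullback f)) ≪≫
    (Functor.associator _ _ _).symm ≪≫
    Functor.isoWhiskerRight (pushEpsIso (SiteCmp.over_le h X) (SiteCmp.over_le h Y) (Over.map f)) _ ≪≫
    Functor.associator _ _ _

lemma relocUnit_eps (h : J' ≤ J) {X Y : C} (f : X ⟶ Y) [HasPullbacksAlong f]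
    (F : Sheaf (J.over Y) AddCommGrpCat.{u}) :
    (epsOv h Y).map ((relocUnit J f).app F) ≫ (relocEpsIso h f).hom.app F =
      (relocUnit J' f).app ((epsOv h Y).obj F) := by
  refine Sheaf.hom_ext (NatTrans.ext (funext fun U => ?_))
  simp [relocEpsIso, pushEpsIso]
  rfl

include d in
/-- Classes of degree `n+1` are detected on a covering from `P`. -/
lemma Sit.detect {n : ℕ} (hV : ∀ Z : C, Vn (E := epsOv d.le Z) (A' Z) n) {X Y : C} (f : X ⟶ Y) (hf : P f)
    (hcov : Sieve.ofArrows (fun _ : PUnit.{u + 1} => X) (fun _ => f) ∈ J Y)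
    (F : Sheaf (J.over Y) AddCommGrpCat.{u}) (hF : A' Y ((epsOv d.le Y).obj F))
    (s : (((epsOv d.le Y).rightDerived (n + 1)).obj F).obj.obj (op (Over.mk (𝟙 Y))))
    (hs : ((((epsOv d.le Y).rightDerived (n + 1)).obj F).obj.map
      (Over.homMk f (Category.comp_id f) : Over.mk f ⟶ Over.mk (𝟙 Y)).op).hom s = 0) : s = 0 := by
  have : HasPullbacksAlong f := d.hasPullbacksAlong hf
  have : ∀ G, Mono ((relocUnit J f).app G) := mono_relocUnit J f hcov
  let i : Over.mk f ⟶ Over.mk (𝟙 Y) := Over.homMk f (Category.comp_id f)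
  let r : secAt (J'.over Y) (Over.mk (𝟙 Y)) ⟶ secAt (J'.over Y) (Over.mk f) :=
    Functor.whiskerLeft (sheafToPresheaf _ _) ((evaluation (Over Y)ᵒᵖ AddCommGrpCat.{u}).map i.op)
  refine eq_zero_of_r_eq_zero (SiteCmp.epsShAdj (SiteCmp.over_le d.le Y) AddCommGrpCat.{u}) (d.good Y)
    (reloc J' f) (reloc J f) (relocEpsIso d.le f) (relocUnit J f) (relocUnit J' f) (relocUnit_eps d.le f)
    (d.prop_rightDerived_reloc f hf) r ?_ ?_ (hV Y) hF s hs
  · intro M hM
    rw [injective_iff_map_eq_zero]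
    intro x hx
    let MJ : Sheaf (J.over Y) AddCommGrpCat.{u} := ⟨M.obj, d.h3 Y M hM⟩
    refine separated MJ (R := Sieve.ofArrows (fun _ : PUnit.{u + 1} => Over.mk f) (fun _ => i)) ?_ x ?_
    · rw [GrothendieckTopology.mem_over_iff, Sieve.overEquiv_ofArrows]
      exact hcov
    · rintro W g ⟨W', b, _, ⟨⟨⟩⟩, rfl⟩
      rw [op_comp, MJ.obj.map_comp]
      exact (congrArg (MJ.obj.map b.op).hom hx).trans (map_zero _)
  · exact fun M x hx => relocUnit_eq_zero J' f M x hx

/-- Restriction of the higher direct images of the comparison. -/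
def rdEpsPullIso (h : J' ≤ J) {V X : C} (v : V ⟶ X) (q : ℕ) :
    (epsOv h X).rightDerived q ⋙ pullOv J' v ≅ pullOv J v ⋙ (epsOv h V).rightDerived q :=
  (SiteBase.rightDerivedCompIso (epsOv h X) (pullOv J' v) q).symm ≪≫
    SiteBase.rightDerivedCongr (pushEpsIso (SiteCmp.over_le h V) (SiteCmp.over_le h X) (Over.map v)).symm q ≪≫
    SiteBase.rightDerivedPrecompIso (pullOv J v) (epsOv h V) q

include d in
lemma Sit.detect_over {n : ℕ} (hV : ∀ Z : C, Vn (E := epsOv d.le Z) (A' Z) n) {X V W : C} (v : V ⟶ X)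
    (w : W ⟶ V) (hw : P w) (hcov : Sieve.ofArrows (fun _ : PUnit.{u + 1} => W) (fun _ => w) ∈ J V)
    (F : Sheaf (J.over X) AddCommGrpCat.{u}) (hF : A' X ((epsOv d.le X).obj F))
    {M : Sheaf (J'.over X) AddCommGrpCat.{u}} (e : M ≅ ((epsOv d.le X).rightDerived (n + 1)).obj F)
    (s : M.obj.obj (op ((Over.map v).obj (Over.mk (𝟙 V)))))
    (hs : (M.obj.map ((Over.map v).map
      (Over.homMk w (Category.comp_id w) : Over.mk w ⟶ Over.mk (𝟙 V))).op).hom s = 0) : s = 0 := by
  let ψ : (pullOv J' v).obj M ≅ ((epsOv d.le V).rightDerived (n + 1)).obj ((pullOv J v).obj F) :=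
    (pullOv J' v).mapIso e ≪≫ (rdEpsPullIso d.le v (n + 1)).app F
  have hFV : A' V ((epsOv d.le V).obj ((pullOv J v).obj F)) :=
    (A' V).prop_of_iso ((pushEpsIso (SiteCmp.over_le d.le V) (SiteCmp.over_le d.le X) (Over.map v)).app F).symm
      (d.h2 v _ hF)
  let ψ₀ := ((secAt (J'.over V) (Over.mk (𝟙 V))).mapIso ψ).addCommGroupIsoToAddEquiv
  have h0 : ψ₀ s = 0 := by
    refine d.detect hV w hw hcov ((pullOv J v).obj F) hFV _ ?_
    refine (ConcreteCategory.congr_hom (ψ.hom.hom.naturality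
      (Over.homMk w (Category.comp_id w) : Over.mk w ⟶ Over.mk (𝟙 V)).op) s).symm.trans ?_
    exact (congrArg (ψ.hom.hom.app _).hom hs).trans (map_zero _)
  exact ψ₀.map_eq_zero_iff.1 h0

include d in
/-- Vanishing in all degrees. -/
theorem Sit.vn : ∀ (n : ℕ) (X : C), Vn (E := epsOv d.le X) (A' X) n := by
  intro n
  induction n with
  | zero => intro X F _ p hp; omega
  | succ n ih =>
    intro X F hF p hp
    rcases Nat.lt_or_ge p n with hpn | hpn
    · exact ih X F hF p hpn
    obtain rfl : p = n := by omega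
    haveI := SiteCmp.idContinuous (SiteCmp.over_le d.le X)
    let Pr : (Over X)ᵒᵖ ⥤ AddCommGrpCat.{u} :=
      ((Sheaf.cohomologyPresheafFunctor.{u} (J.over X) (p + 1) ⋙ SiteBase.precomp (𝟭 (Over X)))).obj F
    let N := (presheafToSheaf (J'.over X) AddCommGrpCat.{u}).obj Pr
    let e : N ≅ ((epsOv d.le X).rightDerived (p + 1)).obj F :=
      ((SiteBase.rpushIso (J.over X) (J'.over X) (𝟭 (Over X)) (p + 1)).app F).symm
    have key : ∀ (U : Over X) (ξ : CohSite.HU F (p + 1) U),
        ((toSheafify (J'.over X) Pr).app (op U)).hom ξ = 0 := by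
      intro U ξ
      obtain ⟨S, hS, hξ⟩ := SiteBase.exists_cover_res_eq_zero F U p ξ
      obtain ⟨ι, V, v, hv, hj⟩ := d.h5 U.left _ ((J.mem_over_iff S).1 hS)
      let V' : ι → Over X := fun j => (Over.map (v j ≫ U.hom)).obj (Over.mk (𝟙 (V j)))
      let v' : ∀ j, V' j ⟶ U := fun j => Over.homMk (v j) (Category.id_comp _).symm
      refine separated N (R := Sieve.ofArrows V' v') ?_ _ ?_
      · rw [GrothendieckTopology.mem_over_iff, Sieve.overEquiv_ofArrows]
        exact hv
      rintro Z g ⟨Z', b, _, ⟨j⟩, rfl⟩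
      rw [op_comp, N.obj.map_comp]
      refine (congrArg (N.obj.map b.op).hom ?_).trans (map_zero _)
      obtain ⟨W, w, hw, hwc, κ, Wk, wk, hWk, hS'⟩ := hj j
      refine d.detect_over ih (v j ≫ U.hom) w hw hwc F hF e _ ?_
      let wk' : ∀ k, (Over.map (v j ≫ U.hom)).obj (Over.mk (wk k ≫ w)) ⟶
          (Over.map (v j ≫ U.hom)).obj (Over.mk w) :=
        fun k => (Over.map (v j ≫ U.hom)).map (Over.homMk (wk k) : Over.mk (wk k ≫ w) ⟶ Over.mk w)
      refine separated N (R := Sieve.ofArrows _ wk') ?_ _ ?_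
      · rw [GrothendieckTopology.mem_over_iff, Sieve.overEquiv_ofArrows]
        exact hWk
      rintro Z g ⟨Z', b', _, ⟨k⟩, rfl⟩
      rw [op_comp, N.obj.map_comp]
      refine (congrArg (N.obj.map b'.op).hom ?_).trans (map_zero _)
      let m : Over.mk (wk k ≫ w) ⟶ Over.mk (𝟙 (V j)) := Over.homMk (wk k ≫ w) (Category.comp_id _)
      let g₀ : (Over.map (v j ≫ U.hom)).obj (Over.mk (wk k ≫ w)) ⟶ U :=
        Over.homMk (wk k ≫ w ≫ v j) (show (wk k ≫ w ≫ v j) ≫ U.hom = (wk k ≫ w) ≫ v j ≫ U.hom by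
          simp only [Category.assoc])
      have hg₀ : S g₀ := by
        have h1 := (Sieve.overEquiv_iff S (wk k ≫ w ≫ v j)).1 (hS' k)
        let i₀ : (Over.map (v j ≫ U.hom)).obj (Over.mk (wk k ≫ w)) ⟶
            Over.mk ((wk k ≫ w ≫ v j) ≫ U.hom) :=
          Over.homMk (𝟙 _) (show 𝟙 _ ≫ (wk k ≫ w ≫ v j) ≫ U.hom = (wk k ≫ w) ≫ v j ≫ U.hom by
            simp only [Category.assoc, Category.id_comp])
        have h2 := S.downward_closed h1 i₀
        rwa [show i₀ ≫ Over.homMk (wk k ≫ w ≫ v j) = g₀ from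
          Over.OverMorphism.ext (Category.id_comp _)] at h2
      have hg : wk' k ≫ (Over.map (v j ≫ U.hom)).map
          (Over.homMk w (Category.comp_id w) : Over.mk w ⟶ Over.mk (𝟙 (V j))) ≫ v' j = g₀ :=
        Over.OverMorphism.ext rfl
      have := ConcreteCategory.congr_hom ((toSheafify (J'.over X) Pr).naturality g₀.op) ξ
      have h3 : (N.obj.map g₀.op).hom (((toSheafify (J'.over X) Pr).app (op U)).hom ξ) = 0 :=
        this.symm.trans ((congrArg ((toSheafify (J'.over X) Pr).app _).hom (hξ _ g₀ hg₀)).trans (map_zero _))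
      rw [← hg, op_comp, op_comp, N.obj.map_comp, N.obj.map_comp] at h3
      exact h3
    have hη : toSheafify (J'.over X) Pr = 0 := by
      ext U x
      exact key U.unop x
    refine IsZero.of_iso ?_ e.symm
    rw [IsZero.iff_id_eq_zero]
    apply Sheaf.hom_ext
    apply sheafify_hom_ext (J'.over X)
    · exact N.property
    · rw [hη, zero_comp, zero_comp]

end Groth.Agent.CompareSit
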