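import Groth.Agent.SiteBase.CompareSit.Concrete
import Groth.Agent.SiteBase.LerayDegen
import Groth.Agent.SiteBase.EH

/-!
# Relocalisation and cohomology in a compare situation
-/

set_option autoImplicit false
set_option linter.unusedSectionVars false

universe u

open CategoryTheory CategoryTheory.Limits Opposite Abelian

noncomputable section

namespace Groth.Agent.CompareSit

variable {C : Type u} [SmallCategory C] {J J' : GrothendieckTopology C}
  {P : MorphismProperty C} {A' : ∀ X : C, ObjectProperty (Sheaf (J'.over X) AddCommGrpCat.{u})}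
  [∀ X : C, WSerre.IsWeakSerre (A' X)] (d : Sit J J' P A')

include d in
theorem Sit.relocalise {n : ℕ} (hV : ∀ Z : C, Vn (E := epsOv d.le Z) (A' Z) n) {X Y : C} (f : X ⟶ Y)
    (hf : P f)
    [((Over.map f).sheafPushforwardCocontinuous AddCommGrpCat.{u} (J'.over X) (J'.over Y)).Additive]
    [((Over.map f).sheafPushforwardCocontinuous AddCommGrpCat.{u} (J.over X) (J.over Y)).Additive]
    (F : Sheaf (J.over X) AddCommGrpCat.{u}) (hF : A' X ((epsOv d.le X).obj F)) (i : ℕ) (hi : i ≤ n) :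
    Nonempty ((((Over.map f).sheafPushforwardCocontinuous AddCommGrpCat.{u} (J'.over X) (J'.over Y)).rightDerived i).obj
        ((epsOv d.le X).obj F) ≅
      (epsOv d.le Y).obj ((((Over.map f).sheafPushforwardCocontinuous AddCommGrpCat.{u} (J.over X) (J.over Y)).rightDerived i).obj F)) := by
  have : HasPullbacksAlong f := d.hasPullbacksAlong hf
  obtain ⟨e⟩ := nonempty_rightDerived_relocalise (SiteCmp.epsShAdj (SiteCmp.over_le d.le X) AddCommGrpCat.{u})
    (d.good X) (SiteCmp.epsShAdj (SiteCmp.over_le d.le Y) AddCommGrpCat.{u}) (d.good Y)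
    (pushOv J' f) (pushOv J f) (pushEpsIso (SiteCmp.over_le d.le Y) (SiteCmp.over_le d.le X) (Over.pullback f))
    (d.prop_rightDerived_pushOv f hf) (hV X) F hF i hi
  exact ⟨(SiteBase.rightDerivedCongr (cocontIso J' f) i).app _ ≪≫ e ≪≫
    (epsOv d.le Y).mapIso ((SiteBase.rightDerivedCongr (cocontIso J f) i).app F).symm⟩

end Groth.Agent.CompareSit

namespace Groth.Agent.CompareSit

variable {C : Type u} [SmallCategory C] {J J' : GrothendieckTopology C}

/-- Degree zero classes are sections. -/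
def extZero (J : GrothendieckTopology C) (U : C) (G : Sheaf J AddCommGrpCat.{u}) :
    SiteBase.EH G 0 U ≃+ G.obj.obj (op U) :=
  (Ext.addEquiv₀).trans (SiteBase.secEquiv J U G)

lemma extZero_comp (U : C) {G G' : Sheaf J AddCommGrpCat.{u}} (φ : G ⟶ G') (y : SiteBase.EH G 0 U) :
    extZero J U G' (y.comp (Ext.mk₀ φ) (add_zero 0)) = (φ.hom.app (op U)).hom (extZero J U G y) := by
  obtain ⟨a, rfl⟩ := (Ext.mk₀_bijective (CohCx.freeSheaf J U) G).2 y
  rw [Ext.mk₀_comp_mk₀]
  show SiteBase.secEquiv J U G' (Ext.addEquiv₀ (Ext.mk₀ (a ≫ φ))) =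
    (φ.hom.app (op U)).hom (SiteBase.secEquiv J U G (Ext.addEquiv₀ (Ext.mk₀ a)))
  rw [show Ext.addEquiv₀ (Ext.mk₀ (a ≫ φ)) = a ≫ φ from Ext.addEquiv₀.right_inv _,
    show Ext.addEquiv₀ (Ext.mk₀ a) = a from Ext.addEquiv₀.right_inv _]
  exact SiteBase.secEquiv_comp U a φ

lemma eps_natural (h : J' ≤ J) (U : C) {G G' : Sheaf J AddCommGrpCat.{u}} (φ : G ⟶ G') (y : SiteBase.EH G 0 U) :
    (extZero J' U ((SiteCmp.epsSh h AddCommGrpCat.{u}).obj G')).symm
        (extZero J U G' (y.comp (Ext.mk₀ φ) (add_zero 0))) =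
      ((extZero J' U ((SiteCmp.epsSh h AddCommGrpCat.{u}).obj G)).symm (extZero J U G y)).comp
        (Ext.mk₀ ((SiteCmp.epsSh h AddCommGrpCat.{u}).map φ)) (add_zero 0) := by
  rw [AddEquiv.symm_apply_eq, extZero_comp, extZero_comp, AddEquiv.apply_symm_apply]
  rfl

/-- Leray for the comparison: no higher direct images gives equal cohomology. -/
theorem nonempty_HU_eps (h : J' ≤ J) (G : Sheaf J AddCommGrpCat.{u})
    (hG : ∀ q : ℕ, IsZero (((SiteCmp.epsSh h AddCommGrpCat.{u}).rightDerived (q + 1)).obj G)) (n : ℕ) (U : C) :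
    Nonempty (CohSite.HU G n U ≃+ CohSite.HU ((SiteCmp.epsSh h AddCommGrpCat.{u}).obj G) n U) := by
  obtain ⟨e⟩ := LerayDegen.ext_equiv_of_rightDerived (CohCx.freeSheaf J U) (CohCx.freeSheaf J' U)
    (SiteCmp.epsSh h AddCommGrpCat.{u})
    (fun I hI => injective_obj_of_adj (SiteCmp.epsShAdj h AddCommGrpCat.{u}) I)
    (fun G => (extZero J U G).trans (extZero J' U ((SiteCmp.epsSh h AddCommGrpCat.{u}).obj G)).symm)
    (fun {G G'} φ y => by
      exact eps_natural h U φ y)
    (SESResLib.derivedLES _) G hG n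
  exact ⟨(SiteBase.huEquiv G n U).trans (e.trans (SiteBase.huEquiv _ n U).symm)⟩

end Groth.Agent.CompareSit
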