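import Groth.Agent.SiteBase.CompareSit.Step

/-!
# Consequences of the vanishing of the higher direct images on a weak Serre class
-/

set_option autoImplicit false
set_option linter.unusedSectionVars false
set_option backward.isDefEq.respectTransparency false

universe v v' v'' u u' u''

open CategoryTheory CategoryTheory.Limits

noncomputable section

namespace Groth.Agent.CompareSit

variable {A : Type u} [Category.{v} A] [Abelian A] [EnoughInjectives A]
  {B : Type u'} [Category.{v'} B] [Abelian B]
  {L : B ⥤ A} {E : A ⥤ B} [L.Additive] [E.Additive] (adj : L ⊣ E)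
  [PreservesFiniteLimits L] [PreservesFiniteColimits L] [PreservesFiniteLimits E]
  [E.Full] [E.Faithful]
  {P : ObjectProperty B} [WSerre.IsWeakSerre P] (hgood : ∀ M, P M → IsIso (adj.unit.app M))

include adj hgood in
/-- Relocalisation commutes with the comparison below `n`. -/
theorem nonempty_rightDerived_relocalise [EnoughInjectives B] {A' : Type u''} [Category.{v''} A']
    [Abelian A'] [EnoughInjectives A'] {B' : Type u''} [Category.{v''} B'] [Abelian B']
    {L' : B' ⥤ A'} {E' : A' ⥤ B'} [L'.Additive] [E'.Additive] (adj' : L' ⊣ E')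
    [PreservesFiniteLimits L'] [PreservesFiniteColimits L'] [E'.Full] [E'.Faithful]
    {P' : ObjectProperty B'} [WSerre.IsWeakSerre P'] (hgood' : ∀ M, P' M → IsIso (adj'.unit.app M))
    (H : B ⥤ B') [H.Additive] [PreservesFiniteLimits H] (f : A ⥤ A') [f.Additive]
    (φ : f ⋙ E' ≅ E ⋙ H) (hH : ∀ M, P M → ∀ i, P' ((H.rightDerived i).obj M))
    {n : ℕ} (hV : Vn (E := E) P n) (X : A) (hX : P (E.obj X)) (i : ℕ) (hi : i ≤ n) :
    Nonempty ((H.rightDerived i).obj (E.obj X) ≅ E'.obj ((f.rightDerived i).obj X)) := by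
  let R := injectiveResolution X
  obtain ⟨e⟩ := nonempty_homology_mapC_iso adj H hV hX R i hi
  let ε : mapC E' (mapC f R.cocomplex) ≅ mapC H (mapC E R.cocomplex) :=
    HomologicalComplex.Hom.isoOfComponents (fun j => φ.app (R.cocomplex.X j))
      (fun j k _ => (φ.hom.naturality (R.cocomplex.d j k)).symm)
  let e' : (mapC E' (mapC f R.cocomplex)).homology i ≅ (H.rightDerived i).obj (E.obj X) :=
    (HomologicalComplex.homologyFunctor B' _ i).mapIso ε ≪≫ e
  let M : B' := (mapC E' (mapC f R.cocomplex)).homology i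
  have hM : IsIso (adj'.unit.app M) := hgood' M (P'.prop_of_iso e'.symm (hH _ hX i))
  exact ⟨e'.symm ≪≫ @asIso _ _ _ _ (adj'.unit.app M) hM ≪≫
    E'.mapIso (homologyL adj' (mapC f R.cocomplex) i ≪≫ (R.isoRightDerivedObj f i).symm)⟩

include adj hgood in
/-- The inverse image of the class is weak Serre once `R^1` vanishes on it. -/
theorem isWeakSerre_inverseImage (hV : Vn (E := E) P 1) : WSerre.IsWeakSerre (P.inverseImage E) where
  exists_zero := ⟨_, isZero_zero A, P.prop_of_isZero (E.map_isZero (isZero_zero A))⟩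
  kernels_le := by
    rintro _ ⟨f, k, hk, hf⟩
    exact P.prop_of_isLimit_kernelFork (KernelFork.mapIsLimit _ hk E) hf.1 hf.2
  cokernels_le := by
    rintro _ ⟨f, k, hk, hf⟩
    have hQ : P (cokernel (E.map f)) := P.prop_cokernel _ hf.1 hf.2
    have := hgood _ hQ
    have e1 : L.obj (cokernel (E.map f)) ≅ cokernel f :=
      PreservesCokernel.iso L (E.map f) ≪≫ cokernel.mapIso (L.map (E.map f)) f
        (asIso (adj.counit.app _)) (asIso (adj.counit.app _)) (adj.counit.naturality f)
    exact P.prop_of_iso (asIso (adj.unit.app _) ≪≫ E.mapIso (e1 ≪≫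
      (cokernelIsCokernel f).coconePointUniqueUpToIso hk)) hQ
  prop_X₂_of_shortExact {S} hS h₁ h₃ := by
    have hz := hV _ h₁ 0 le_rfl
    have he : Epi ((E.rightDerived 0).map S.g) :=
      ((SESResLib.derivedLES E).exact₃ S hS 0 1 rfl).epi_f (hz.eq_of_tgt _ _)
    have : Epi (E.map S.g) := by
      have h : E.map S.g = (r0 E).inv.app S.X₂ ≫ (E.rightDerived 0).map S.g ≫ (r0 E).hom.app S.X₃ := by
        rw [(r0 E).hom.naturality, Iso.inv_hom_id_app_assoc]
      rw [h]
      infer_instance
    have := hS.mono_f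
    have hS' : (S.map E).ShortExact :=
      ShortComplex.ShortExact.mk' (hS.exact.map_of_mono_of_preservesKernel _ ‹_› inferInstance)
        (E.map_mono S.f) (inferInstanceAs (Epi (E.map S.g)))
    exact P.prop_X₂_of_shortExact hS' h₁ h₃

end Groth.Agent.CompareSit
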