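import Groth.Agent.SiteBase.CompareSit.Cor
import Groth.Prelude.Def_SiteCmp
import Groth.Prelude.Def_CohSite
import Mathlib.CategoryTheory.Functor.Flat
import Mathlib.Algebra.Category.Grp.FilteredColimits

/-!
# The comparison morphism of two topologies on abelian sheaves
-/

set_option autoImplicit false

universe u

open CategoryTheory CategoryTheory.Limits

noncomputable section

namespace Groth.Agent.CompareSit

variable {C : Type u} [SmallCategory C] {J J' : GrothendieckTopology C} (h : J' ≤ J)

instance epsSh_additive : (SiteCmp.epsSh h AddCommGrpCat.{u}).Additive where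

/-- `ε_*` is fully faithful. -/
def epsFullyFaithful : (SiteCmp.epsSh h AddCommGrpCat.{u}).FullyFaithful where
  preimage f := ⟨{ app := fun U => f.hom.app U, naturality := fun U V i => f.hom.naturality i }⟩

instance epsSh_full : (SiteCmp.epsSh h AddCommGrpCat.{u}).Full := (epsFullyFaithful h).full

instance epsSh_faithful : (SiteCmp.epsSh h AddCommGrpCat.{u}).Faithful := (epsFullyFaithful h).faithful

instance epsSh_isRightAdjoint :
    haveI := SiteCmp.idContinuous h
    ((𝟭 C).sheafPushforwardContinuous AddCommGrpCat.{u} J' J).IsRightAdjoint :=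
  haveI := SiteCmp.idContinuous h
  inferInstance

instance epsSh_preservesFiniteLimits : PreservesFiniteLimits (SiteCmp.epsSh h AddCommGrpCat.{u}) := by
  haveI := (SiteCmp.epsShAdj h AddCommGrpCat.{u}).isRightAdjoint
  infer_instance

instance epsShInv_preservesFiniteLimits :
    PreservesFiniteLimits (SiteCmp.epsShInv h AddCommGrpCat.{u}) := by
  haveI := SiteCmp.idContinuous h
  have : HasSheafify J AddCommGrpCat.{u} := inferInstance
  have : HasSheafify J' AddCommGrpCat.{u} := inferInstance
  have : RepresentablyFlat (𝟭 C) := RepresentablyFlat.id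
  have : ReflectsLimits (forget AddCommGrpCat.{u}) := reflectsLimits_of_reflectsIsomorphisms
  have : PreservesFiniteLimits ((𝟭 C).op.lan : (Cᵒᵖ ⥤ AddCommGrpCat.{u}) ⥤ Cᵒᵖ ⥤ AddCommGrpCat.{u}) :=
    lan_preservesFiniteLimits_of_flat AddCommGrpCat.{u} (𝟭 C)
  exact Functor.sheafPullbackConstruction.preservesFiniteLimits (𝟭 C) AddCommGrpCat.{u} J' J

instance epsShInv_preservesFiniteColimits :
    PreservesFiniteColimits (SiteCmp.epsShInv h AddCommGrpCat.{u}) := by
  haveI := (SiteCmp.epsShAdj h AddCommGrpCat.{u}).isLeftAdjoint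
  infer_instance

instance epsShInv_additive : (SiteCmp.epsShInv h AddCommGrpCat.{u}).Additive :=
  (SiteCmp.epsShAdj h AddCommGrpCat.{u}).left_adjoint_additive

/-- A `J'`-sheaf which is a `J`-sheaf is in the image of `ε_*`. -/
lemma isIso_unit_of_isSheaf (F : Sheaf J' AddCommGrpCat.{u}) (hF : Presheaf.IsSheaf J F.obj) :
    IsIso ((SiteCmp.epsShAdj h AddCommGrpCat.{u}).unit.app F) :=
  (SiteCmp.epsShAdj h AddCommGrpCat.{u}).isIso_unit_app_of_iso (X := ⟨F.obj, hF⟩)
    { hom := ⟨{ app := fun U => 𝟙 _, naturality := fun U V i => (Category.comp_id _).trans (Category.id_comp _).symm }⟩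
      inv := ⟨{ app := fun U => 𝟙 _, naturality := fun U V i => (Category.comp_id _).trans (Category.id_comp _).symm }⟩
      hom_inv_id := Sheaf.hom_ext (NatTrans.ext (funext fun U => Category.comp_id _))
      inv_hom_id := Sheaf.hom_ext (NatTrans.ext (funext fun U => Category.comp_id _)) }

end Groth.Agent.CompareSit
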