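import Groth.Agent.SiteBase.CompareSit.Eps
import Groth.Agent.SiteBase.Sections
import Mathlib.CategoryTheory.Sites.Over
import Mathlib.CategoryTheory.Comma.Over.Pullback
import Mathlib.CategoryTheory.Limits.FilteredColimitCommutesFiniteLimit
import Mathlib.CategoryTheory.Preadditive.Injective.Preserves

/-!
# Localised sites and the relocalisation along a quarrable morphism
-/

set_option autoImplicit false

universe u

open CategoryTheory CategoryTheory.Limits Opposite

noncomputable section

namespace Groth.Agent.CompareSit

variable {C : Type u} [SmallCategory C] (J : GrothendieckTopology C) {X Y : C} (f : X ⟶ Y)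

/-- Sections of a sheaf are determined on a covering sieve. -/
lemma separated {C : Type u} [SmallCategory C] {J : GrothendieckTopology C}
    (F : Sheaf J AddCommGrpCat.{u}) {U : C} {R : Sieve U} (hR : R ∈ J U) (s : F.obj.obj (op U))
    (h : ∀ (V : C) (g : V ⟶ U), R g → (F.obj.map g.op).hom s = 0) : s = 0 :=
  ((((isSheaf_iff_isSheaf_of_type J _).1
    ((Presheaf.isSheaf_iff_isSheaf_forget J F.obj (forget AddCommGrpCat.{u})).1 F.2)) R hR)).isSeparatedFor.ext
    fun V g hg => (h V g hg).trans (map_zero (F.obj.map g.op).hom).symm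

/-- Restriction to a slice. -/
abbrev pullOv : Sheaf (J.over Y) AddCommGrpCat.{u} ⥤ Sheaf (J.over X) AddCommGrpCat.{u} :=
  CohSite.push (J.over Y) (J.over X) (Over.map f)

/-- The lifts of an object over the target. -/
abbrev Fib (W : Over Y) : Type u := {g : W.left ⟶ X // g ≫ f = W.hom}

/-- The final discrete family of costructured arrows. -/
def fibArrow (W : (Over Y)ᵒᵖ) : Discrete (Fib f W.unop) ⥤ CostructuredArrow (Over.map f).op W :=
  Discrete.functor fun g => CostructuredArrow.mk (Y := op (Over.mk g.1))
    (Over.homMk (𝟙 _) ((Category.id_comp _).trans g.2) : W.unop ⟶ (Over.map f).obj (Over.mk g.1)).op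

theorem final_fibArrow (W : (Over Y)ᵒᵖ) : (fibArrow f W).Final := ⟨fun T => by
  let w : W.unop.left ⟶ T.left.unop.left := T.hom.unop.left
  let g : Fib f W.unop := ⟨w ≫ T.left.unop.hom, (Category.assoc _ _ _).trans (Over.w T.hom.unop)⟩
  let k : T ⟶ (fibArrow f W).obj ⟨g⟩ := CostructuredArrow.homMk (Over.homMk w rfl : Over.mk g.1 ⟶ T.left.unop).op
    (Quiver.Hom.unop_inj (Over.OverMorphism.ext (Category.id_comp _)))
  haveI : Nonempty (StructuredArrow T (fibArrow f W)) := ⟨StructuredArrow.mk k⟩
  have huniq : ∀ o : StructuredArrow T (fibArrow f W), o = StructuredArrow.mk k := by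
    rintro ⟨⟨⟨⟩⟩, ⟨g'⟩, m⟩
    have h1 : m.left.unop.left = w := by
      have h := congrArg (fun t => CommaMorphism.left (Quiver.Hom.unop t)) (CostructuredArrow.w m)
      exact (Category.id_comp _).symm.trans h
    have h2 : g' = g := Subtype.ext ((Over.w m.left.unop).symm.trans (by rw [h1]; rfl))
    subst h2
    have h3 : m = k := CostructuredArrow.hom_ext _ _ (Quiver.Hom.unop_inj (Over.OverMorphism.ext h1))
    subst h3
    rfl
  exact zigzag_isConnected fun a b => by rw [huniq a, huniq b]⟩

theorem lan_map_preservesFiniteLimits :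
    PreservesFiniteLimits ((Over.map f).op.lan : ((Over X)ᵒᵖ ⥤ AddCommGrpCat.{u}) ⥤ (Over Y)ᵒᵖ ⥤ AddCommGrpCat.{u}) := by
  refine ⟨fun I _ _ => ?_⟩
  apply preservesLimitsOfShape_of_evaluation ((Over.map f).op.lan : ((Over X)ᵒᵖ ⥤ AddCommGrpCat.{u}) ⥤ _) I
  intro W
  have := final_fibArrow f W
  have : AB4.{u} AddCommGrpCat.{u} := AB4.of_AB5 _
  have : HasExactColimitsOfShape (Discrete (Fib f W.unop)) AddCommGrpCat.{u} := inferInstance
  have : PreservesLimitsOfShape I ((Functor.whiskeringLeft _ _ AddCommGrpCat.{u}).obj (CostructuredArrow.proj (Over.map f).op W) ⋙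
      (Functor.whiskeringLeft _ _ AddCommGrpCat.{u}).obj (fibArrow f W) ⋙ colim) := inferInstance
  exact preservesLimitsOfShape_of_natIso
    (lanEvaluationIsoColim AddCommGrpCat.{u} (Over.map f).op W ≪≫
      Functor.isoWhiskerLeft _ (Functor.Final.colimIso (fibArrow f W)).symm).symm

/-- Extension by zero along `f` is exact. -/
theorem preservesFiniteLimits_shriek :
    PreservesFiniteLimits ((Over.map f).sheafPullback AddCommGrpCat.{u} (J.over X) (J.over Y)) := by
  have := lan_map_preservesFiniteLimits f
  exact preservesFiniteLimits_of_natIso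
    (F := sheafToPresheaf _ _ ⋙ ((Over.map f).op.lan ⋙ presheafToSheaf (J.over Y) AddCommGrpCat.{u}))
    (Functor.sheafPullbackConstruction.sheafPullbackIso (Over.map f) AddCommGrpCat.{u} (J.over X) (J.over Y)).symm

instance pullOv_isRightAdjoint : (pullOv J f).IsRightAdjoint :=
  ((Over.map f).sheafAdjunctionContinuous AddCommGrpCat.{u} (J.over X) (J.over Y)).isRightAdjoint

instance pullOv_isLeftAdjoint : (pullOv J f).IsLeftAdjoint :=
  ((Over.map f).sheafAdjunctionCocontinuous AddCommGrpCat.{u} (J.over X) (J.over Y)).isLeftAdjoint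

instance pullOv_preservesFiniteLimits : PreservesFiniteLimits (pullOv J f) := inferInstance

instance pullOv_preservesFiniteColimits : PreservesFiniteColimits (pullOv J f) := inferInstance

instance pullOv_preservesInjective : (pullOv J f).PreservesInjectiveObjects where
  injective_obj {I} hI := by
    have := preservesFiniteLimits_shriek J f
    have : ((Over.map f).sheafPullback AddCommGrpCat.{u} (J.over X) (J.over Y)).PreservesMonomorphisms :=
      inferInstance
    exact ((Over.map f).sheafAdjunctionContinuous AddCommGrpCat.{u} (J.over X) (J.over Y)).map_injective I hI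

/-- The sections over an object. -/
abbrev secAt {C : Type u} [SmallCategory C] (J : GrothendieckTopology C) (U : C) :
    Sheaf J AddCommGrpCat.{u} ⥤ AddCommGrpCat.{u} :=
  sheafToPresheaf J AddCommGrpCat.{u} ⋙ (evaluation Cᵒᵖ AddCommGrpCat.{u}).obj (op U)

instance secAt_preservesFiniteLimits {C : Type u} [SmallCategory C] (J : GrothendieckTopology C) (U : C) :
    PreservesFiniteLimits (secAt J U) := comp_preservesFiniteLimits _ _

instance secAt_additive {C : Type u} [SmallCategory C] (J : GrothendieckTopology C) (U : C) :
    (secAt J U).Additive where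

section Pullback

variable [HasPullbacksAlong f]

instance pullback_isContinuous : (Over.pullback f).IsContinuous (J.over Y) (J.over X) :=
  (Over.mapPullbackAdj f).isContinuous_of_isCocontinuous _ _

/-- Direct image along the base change functor. -/
abbrev pushOv : Sheaf (J.over X) AddCommGrpCat.{u} ⥤ Sheaf (J.over Y) AddCommGrpCat.{u} :=
  CohSite.push (J.over X) (J.over Y) (Over.pullback f)

/-- Restriction is left adjoint to the direct image. -/
def ovAdj : pullOv J f ⊣ pushOv J f :=
  (Over.mapPullbackAdj f).sheafPushforwardContinuous (E := AddCommGrpCat.{u}) (J.over X) (J.over Y)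

/-- The direct image is the push-forward along the cocontinuous functor. -/
def cocontIso :
    (Over.map f).sheafPushforwardCocontinuous AddCommGrpCat.{u} (J.over X) (J.over Y) ≅ pushOv J f :=
  ((Over.map f).sheafAdjunctionCocontinuous AddCommGrpCat.{u} (J.over X) (J.over Y)).rightAdjointUniq
    (ovAdj J f)

instance pushOv_isRightAdjoint : (pushOv J f).IsRightAdjoint := (ovAdj J f).isRightAdjoint

instance pushOv_preservesFiniteLimits : PreservesFiniteLimits (pushOv J f) := inferInstance

instance pushOv_preservesInjective : (pushOv J f).PreservesInjectiveObjects where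
  injective_obj {I} hI := by
    have : (pullOv J f).PreservesMonomorphisms := inferInstance
    exact (ovAdj J f).map_injective I hI

/-- Restriction followed by direct image. -/
abbrev reloc : Sheaf (J.over Y) AddCommGrpCat.{u} ⥤ Sheaf (J.over Y) AddCommGrpCat.{u} :=
  pullOv J f ⋙ pushOv J f

instance reloc_additive : (reloc J f).Additive := inferInstance

instance reloc_preservesFiniteLimits : PreservesFiniteLimits (reloc J f) :=
  comp_preservesFiniteLimits _ _

instance reloc_preservesInjective : (reloc J f).PreservesInjectiveObjects where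
  injective_obj {I} hI := by
    have : Injective ((pullOv J f).obj I) := Functor.PreservesInjectiveObjects.injective_obj hI
    exact Functor.PreservesInjectiveObjects.injective_obj (F := pushOv J f) this

/-- The canonical map to the relocalisation. -/
abbrev relocUnit : 𝟭 (Sheaf (J.over Y) AddCommGrpCat.{u}) ⟶ reloc J f := (ovAdj J f).unit

/-- Its components restrict along the projections. -/
lemma relocUnit_app (F : Sheaf (J.over Y) AddCommGrpCat.{u}) (U : Over Y) :
    ((relocUnit J f).app F).hom.app (op U) =
      F.obj.map ((Over.mapPullbackAdj f).counit.app U).op := by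
  rfl

lemma counit_left (U : Over Y) :
    ((Over.mapPullbackAdj f).counit.app U).left = pullback.fst U.hom f := by
  simp [Over.mapPullbackAdj]

/-- For a covering `f` the canonical map is injective. -/
theorem mono_relocUnit (hcov : Sieve.ofArrows (fun _ : PUnit.{u + 1} => X) (fun _ => f) ∈ J Y)
    (F : Sheaf (J.over Y) AddCommGrpCat.{u}) : Mono ((relocUnit J f).app F) := by
  have h : ∀ U, Mono (((relocUnit J f).app F).hom.app U) := fun U => by
    rw [AddCommGrpCat.mono_iff_injective, injective_iff_map_eq_zero]
    intro x hx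
    change (((relocUnit J f).app F).hom.app (op U.unop)).hom x = 0 at hx
    rw [relocUnit_app] at hx
    refine separated F (R := Sieve.ofArrows (fun _ : PUnit.{u + 1} => _) (fun _ => (Over.mapPullbackAdj f).counit.app U.unop)) ?_ x ?_
    · rw [GrothendieckTopology.mem_over_iff, Sieve.overEquiv_ofArrows]
      refine J.superset_covering ?_ (J.pullback_stable U.unop.hom hcov)
      rintro W g ⟨W', b, _, ⟨⟨⟩⟩, hb⟩
      refine ⟨_, pullback.lift g b hb.symm, _, Presieve.ofArrows.mk PUnit.unit, ?_⟩
      show pullback.lift g b hb.symm ≫ ((Over.mapPullbackAdj f).counit.app U.unop).left = g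
      rw [counit_left]
      exact pullback.lift_fst _ _ _
    · rintro W g ⟨W', b, _, ⟨⟨⟩⟩, rfl⟩
      rw [op_comp, F.obj.map_comp]
      exact (congrArg (F.obj.map b.op).hom hx).trans (map_zero _)
  have : Mono ((relocUnit J f).app F).hom := NatTrans.mono_of_mono_app _
  exact (sheafToPresheaf _ _).mono_of_mono_map this

/-- The canonical map vanishes on sections which vanish on `f`. -/
theorem relocUnit_eq_zero (F : Sheaf (J.over Y) AddCommGrpCat.{u})
    (x : F.obj.obj (op (Over.mk (𝟙 Y))))
    (hx : (F.obj.map (Over.homMk f (by simp) : Over.mk f ⟶ Over.mk (𝟙 Y)).op).hom x = 0) :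
    (((relocUnit J f).app F).hom.app (op (Over.mk (𝟙 Y)))).hom x = 0 := by
  rw [relocUnit_app]
  let q : (Over.map f).obj ((Over.pullback f).obj (Over.mk (𝟙 Y))) ⟶ Over.mk f :=
    Over.homMk (pullback.snd (𝟙 Y) f)
  have hc : (Over.mapPullbackAdj f).counit.app (Over.mk (𝟙 Y)) =
      q ≫ (Over.homMk f (Category.comp_id f) : Over.mk f ⟶ Over.mk (𝟙 Y)) := by
    apply Over.OverMorphism.ext
    rw [counit_left]
    exact (Category.comp_id _).symm.trans pullback.condition
  rw [hc, op_comp]
  show (F.obj.map (_ ≫ q.op)).hom x = 0
  rw [F.obj.map_comp]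
  exact (congrArg (F.obj.map q.op).hom hx).trans (map_zero _)

end Pullback

end Groth.Agent.CompareSit
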