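import Groth.Agent.SiteBase.CompareSit.CycleSeq
import Groth.Agent.SiteBase.DerivedComp
import Groth.Prelude.Def_WeakSerre
import Mathlib.CategoryTheory.Adjunction.FullyFaithful
import Mathlib.Algebra.Homology.HomologySequence
import Mathlib.Algebra.Homology.HomologicalComplexAbelian
import Mathlib.Algebra.Category.Grp.Abelian
import Mathlib.Algebra.Homology.ShortComplex.Ab

/-!
# The induction step for the comparison of two topologies, in abstract abelian categories
-/

set_option autoImplicit false
set_option linter.unusedSectionVars false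
set_option backward.isDefEq.respectTransparency false

universe w v v' u u'

open CategoryTheory CategoryTheory.Limits

noncomputable section

namespace Groth.Agent.CompareSit

variable {A : Type u} [Category.{v} A] [Abelian A] [EnoughInjectives A]
  {B : Type u'} [Category.{v'} B] [Abelian B]
  {L : B ⥤ A} {E : A ⥤ B} [L.Additive] [E.Additive] (adj : L ⊣ E)
  [PreservesFiniteLimits L] [PreservesFiniteColimits L] [PreservesFiniteLimits E]
  [E.Full] [E.Faithful]

/-- `L H^q(E K) ≅ H^q(K)`. -/
def homologyL (K : CochainComplex A ℕ) (q : ℕ) :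
    L.obj ((mapC E K).homology q) ≅ K.homology q :=
  (SiteBase.compHomologyIso E L q K).symm ≪≫
    (HomologicalComplex.homologyFunctor A (ComplexShape.up ℕ) q).mapIso
      (HomologicalComplex.Hom.isoOfComponents (fun i => asIso (adj.counit.app (K.X i)))
        (fun i j _ => (adj.counit.naturality (K.d i j)).symm))

lemma homologyL_naturality {K K' : CochainComplex A ℕ} (f : K ⟶ K') (q : ℕ) :
    L.map (HomologicalComplex.homologyMap ((E.mapHomologicalComplex _).map f) q) ≫
        (homologyL adj K' q).hom =
      (homologyL adj K q).hom ≫ HomologicalComplex.homologyMap f q := by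
  have h := SiteBase.compHomologyIso_naturality E L q f
  simp only [homologyL, Iso.trans_hom, Iso.symm_hom, Category.assoc]
  have h' : L.map (HomologicalComplex.homologyMap ((E.mapHomologicalComplex _).map f) q) ≫
      (SiteBase.compHomologyIso E L q K').inv = (SiteBase.compHomologyIso E L q K).inv ≫
        HomologicalComplex.homologyMap (((E ⋙ L).mapHomologicalComplex _).map f) q := by
    rw [Iso.comp_inv_eq, Category.assoc]
    exact (Iso.inv_hom_id_assoc _ _).symm.trans (congrArg (_ ≫ ·) h.symm)
  rw [reassoc_of% h']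
  congr 1
  refine (HomologicalComplex.homologyMap_comp _ _ q).symm.trans
    (Eq.trans ?_ (HomologicalComplex.homologyMap_comp _ _ q))
  congr 1
  ext i
  exact adj.counit.naturality (f.f i)

/-- An object inside an object of the essential image is separated. -/
lemma mono_unit_of_mono {M : B} {X : A} (m : M ⟶ E.obj X) [Mono m] : Mono (adj.unit.app M) := by
  have : IsIso (adj.unit.app (E.obj X)) := adj.isIso_unit_app_of_iso (Iso.refl _)
  have h : adj.unit.app M ≫ E.map (L.map m) = m ≫ adj.unit.app (E.obj X) := (adj.unit.naturality m).symm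
  exact mono_of_mono_fac h

variable (P : ObjectProperty B) [WSerre.IsWeakSerre P] (hgood : ∀ M, P M → IsIso (adj.unit.app M))

/-- Vanishing of the higher direct images in degrees `1..n`. -/
def Vn (n : ℕ) : Prop :=
  ∀ X : A, P (E.obj X) → ∀ p : ℕ, p + 1 ≤ n → IsZero ((E.rightDerived (p + 1)).obj X)

variable {P}

include adj hgood in
lemma prop_map_homology {K : CochainComplex A ℕ} {q : ℕ} (h : P ((mapC E K).homology q)) :
    P (E.obj (K.homology q)) := by
  have := hgood _ h
  exact P.prop_of_iso (asIso (adj.unit.app _) ≪≫ E.mapIso (homologyL adj K q)) h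

include adj hgood in
/-- The top cohomology is separated. -/
lemma mono_unit_homology {n : ℕ} (hV : Vn (E := E) P n) (K : CochainComplex A ℕ)
    (hK : ∀ i, Injective (K.X i)) (h : ∀ q, q < n → P ((mapC E K).homology q)) :
    Mono (adj.unit.app ((mapC E K).homology n)) := by
  match n, hV, h with
  | 0, _, _ => exact mono_unit_of_mono adj (homologyZeroIso E K).hom
  | k + 1, hV, h =>
    have := mono_edge (acyclic_of_injective E K hK) k fun i p hip =>
      hV _ (prop_map_homology adj hgood (h i (by omega))) p (by omega)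
    exact mono_unit_of_mono adj (edge E K k)

include adj hgood in
/-- The core of the induction step, on complexes. -/
theorem mono_homologyMap_succ {n : ℕ} (hV : Vn (E := E) P n) {I K : CochainComplex A ℕ} (f : I ⟶ K)
    [∀ i, Mono (f.f i)] (hI : ∀ i, Injective (I.X i)) (hK : ∀ i, Injective (K.X i))
    (hI₀ : P ((mapC E I).homology 0))
    (hI₁ : ∀ q, q + 1 ≤ n → IsZero ((mapC E I).homology (q + 1))) (hI₂ : IsZero (I.homology (n + 1)))
    (hKP : ∀ q, q ≤ n → P ((mapC E K).homology q)) :
    Mono (HomologicalComplex.homologyMap ((E.mapHomologicalComplex _).map f) (n + 1)) := by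
  let S : ShortComplex (CochainComplex A ℕ) := ShortComplex.mk f (cokernel.π f) (cokernel.condition f)
  have : Mono f := HomologicalComplex.mono_of_mono_f f inferInstance
  have hS : S.ShortExact := ShortComplex.ShortExact.mk' (ShortComplex.exact_cokernel f)
    (inferInstanceAs (Mono f)) (inferInstanceAs (Epi (cokernel.π f)))
  have hSi : ∀ i, (S.map (HomologicalComplex.eval A (ComplexShape.up ℕ) i)).ShortExact :=
    fun i => hS.map_of_exact _
  let s : ∀ i, (S.map (HomologicalComplex.eval A (ComplexShape.up ℕ) i)).Splitting := fun i =>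
    haveI : Injective (S.map (HomologicalComplex.eval A (ComplexShape.up ℕ) i)).X₁ := hI i
    (hSi i).splittingOfInjective
  have hQ : ∀ i, Injective (S.X₃.X i) := fun i => by
    have : Injective (S.map (HomologicalComplex.eval A (ComplexShape.up ℕ) i)).X₂ := hK i
    exact Retract.injective (X := (S.map (HomologicalComplex.eval A (ComplexShape.up ℕ) i)).X₃)
      (Y := (S.map (HomologicalComplex.eval A (ComplexShape.up ℕ) i)).X₂) ⟨(s i).s, _, (s i).s_g⟩
  let S' : ShortComplex (CochainComplex B ℕ) := S.map (E.mapHomologicalComplex _)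
  have hS' : S'.ShortExact :=
    HomologicalComplex.shortExact_of_degreewise_shortExact S' fun i => ((s i).map E).shortExact
  have hIq : ∀ q, q ≤ n → P (S'.X₁.homology q) := fun q hq => by
    cases q with
    | zero => exact hI₀
    | succ q => exact P.prop_of_isZero (hI₁ q hq)
  let F : ∀ q, S'.X₁.homology q ⟶ S'.X₂.homology q := fun q => HomologicalComplex.homologyMap S'.f q
  let G : ∀ q, S'.X₂.homology q ⟶ S'.X₃.homology q := fun q => HomologicalComplex.homologyMap S'.g q
  have w : ∀ q, F q ≫ G q = 0 := fun q => by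
    rw [← HomologicalComplex.homologyMap_comp, S'.zero, HomologicalComplex.homologyMap_zero]
  let Bq : ℕ → B := fun q => cokernel (F q)
  let ψ : ∀ q, Bq q ⟶ S'.X₃.homology q := fun q => cokernel.desc (F q) (G q) (w q)
  have hψm : ∀ q, Mono (ψ q) := fun q =>
    (ShortComplex.exact_iff_mono_cokernel_desc _).1 (hS'.homology_exact₂ q)
  have hB : ∀ q, q ≤ n → P (Bq q) := fun q hq =>
    P.prop_cokernel (F q) (hIq q hq) (hKP q hq)
  have hψepi : ∀ q, Epi (G q) → Epi (ψ q) := fun q _ =>
    epi_of_epi_fac (f := cokernel.π (F q)) (h := G q) (cokernel.π_desc _ _ _)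
  have hlow : ∀ q, q < n → P (S'.X₃.homology q) := fun q hq => by
    have := hψepi q ((hS'.homology_exact₃ q (q + 1) rfl).epi_f ((hI₁ q hq).eq_of_tgt _ _))
    have := hψm q
    have := isIso_of_mono_of_epi (ψ q)
    exact P.prop_of_iso (asIso (ψ q)) (hB q hq.le)
  have hsep : Mono (adj.unit.app (S'.X₃.homology n)) :=
    mono_unit_homology adj hgood hV S.X₃ hQ hlow
  have hiso : IsIso (ψ n) := by
    have := hψm n
    have he : Epi (HomologicalComplex.homologyMap S.g n) :=
      (hS.homology_exact₃ n (n + 1) rfl).epi_f (hI₂.eq_of_tgt _ _)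
    have hg : Epi (L.map (G n)) := by
      have := homologyL_naturality adj S.g n
      have he' : L.map (G n) = (homologyL adj S.X₂ n).hom ≫ HomologicalComplex.homologyMap S.g n ≫
          (homologyL adj S.X₃ n).inv := by
        rw [← Category.assoc, Iso.eq_comp_inv]
        exact this
      rw [he']
      infer_instance
    have : Epi (L.map (ψ n)) :=
      epi_of_epi_fac (f := L.map (cokernel.π (F n))) (h := L.map (G n))
        (by rw [← L.map_comp, cokernel.π_desc])
    have : Mono (L.map (ψ n)) := inferInstance
    have := isIso_of_mono_of_epi (L.map (ψ n))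
    have := hgood _ (hB n le_rfl)
    have hcomp : IsIso (ψ n ≫ adj.unit.app (S'.X₃.homology n)) := by
      have : ψ n ≫ adj.unit.app (S'.X₃.homology n) = adj.unit.app (Bq n) ≫ E.map (L.map (ψ n)) :=
        adj.unit.naturality (ψ n)
      rw [this]
      infer_instance
    have : Epi (adj.unit.app (S'.X₃.homology n)) := epi_of_epi (ψ n) _
    have := isIso_of_mono_of_epi (adj.unit.app (S'.X₃.homology n))
    exact IsIso.of_isIso_comp_right (ψ n) (adj.unit.app (S'.X₃.homology n))
  have hGepi : Epi (G n) := by
    rw [show G n = cokernel.π (F n) ≫ ψ n from (cokernel.π_desc _ _ _).symm]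
    infer_instance
  have hδ : hS'.δ n (n + 1) rfl = 0 := by
    rw [← cancel_epi (G n), comp_zero]
    exact ShortComplex.ShortExact.comp_δ hS' n (n + 1) rfl
  exact (hS'.homology_exact₁ n (n + 1) rfl).mono_g hδ

include adj in
lemma injective_obj_of_adj (X : A) [Injective X] : Injective (E.obj X) :=
  Injective.injective_of_adjoint adj X

/-- `H^0` of the image of a resolution. -/
def homologyZeroResolution {X : A} (R : InjectiveResolution X) :
    (mapC E R.cocomplex).homology 0 ≅ E.obj X :=
  (R.isoRightDerivedObj E 0).symm ≪≫ (r0 E).app X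

lemma isZero_homology_resolution {X : A} (R : InjectiveResolution X) (q : ℕ)
    (h : IsZero ((E.rightDerived q).obj X)) : IsZero ((mapC E R.cocomplex).homology q) :=
  h.of_iso (R.isoRightDerivedObj E q).symm

lemma isZero_homology_resolution_vn {n : ℕ} (hV : Vn (E := E) P n) {X : A} (hX : P (E.obj X))
    (R : InjectiveResolution X) (q : ℕ) (hq : q + 1 ≤ n) :
    IsZero ((mapC E R.cocomplex).homology (q + 1)) :=
  isZero_homology_resolution R (q + 1) (hV X hX q hq)

section Relocalisation

variable [EnoughInjectives B] (T' : B ⥤ B) [T'.Additive] [PreservesFiniteLimits T']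

include adj in
/-- `H^i(T' E R) ≅ R^iT'(EX)` below `n`. -/
lemma nonempty_homology_mapC_iso {D : Type*} [Category D] [Abelian D] (H : B ⥤ D) [H.Additive]
    [PreservesFiniteLimits H] {n : ℕ} (hV : Vn (E := E) P n) {X : A} (hX : P (E.obj X))
    (R : InjectiveResolution X) (i : ℕ) (hi : i ≤ n) :
    Nonempty ((mapC H (mapC E R.cocomplex)).homology i ≅ (H.rightDerived i).obj (E.obj X)) := by
  obtain ⟨e⟩ := nonempty_homology_iso (G := H) (K := mapC E R.cocomplex)
    (acyclic_of_injective H _ fun j => haveI := R.injective j; injective_obj_of_adj adj _)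
    (fun q hq => isZero_homology_resolution_vn hV hX R q hq) i hi
  exact ⟨e ≪≫ (H.rightDerived i).mapIso (homologyZeroResolution R)⟩

variable (T : A ⥤ A) [T.Additive] [T.PreservesInjectiveObjects] (φ : T ⋙ E ≅ E ⋙ T')
  (η : 𝟭 A ⟶ T) (η' : 𝟭 B ⟶ T') [∀ X, Mono (η.app X)]
  (hη : ∀ X, E.map (η.app X) ≫ φ.hom.app X = η'.app (E.obj X))
  (hT' : ∀ M, P M → ∀ i, P ((T'.rightDerived i).obj M))
  {Γ₀ Γ₁ : B ⥤ AddCommGrpCat.{w}} [Γ₀.Additive] [Γ₁.Additive] [PreservesFiniteLimits Γ₀]
  [PreservesFiniteLimits Γ₁]
  (r : Γ₀ ⟶ Γ₁) (hinj : ∀ M, P M → Function.Injective (r.app M).hom)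
  (hfac : ∀ M (x : Γ₀.obj M), (r.app M).hom x = 0 → (Γ₀.map (η'.app M)).hom x = 0)

include adj hgood φ hη hT' hinj hfac in
/-- The induction step: classes of degree `n+1` are detected on the covering. -/
theorem eq_zero_of_r_eq_zero {n : ℕ} (hV : Vn (E := E) P n) {X : A} (hX : P (E.obj X))
    (s : Γ₀.obj ((E.rightDerived (n + 1)).obj X)) (hs : (r.app _).hom s = 0) : s = 0 := by
  let R := injectiveResolution X
  let I := R.cocomplex
  let K : CochainComplex A ℕ := mapC T I
  let f : I ⟶ K := { f := fun i => η.app (I.X i), comm' := fun i j _ => (η.naturality (I.d i j)).symm }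
  have : ∀ i, Mono (f.f i) := fun i => inferInstanceAs (Mono (η.app (I.X i)))
  have hI : ∀ i, Injective (I.X i) := R.injective
  have hK : ∀ i, Injective (K.X i) := fun i => haveI := hI i; Functor.PreservesInjectiveObjects.injective_obj ‹_›
  let ε : mapC E K ≅ mapC T' (mapC E I) :=
    HomologicalComplex.Hom.isoOfComponents (fun i => φ.app (I.X i))
      (fun i j _ => (φ.hom.naturality (I.d i j)).symm)
  let f' : mapC E I ⟶ mapC T' (mapC E I) := (E.mapHomologicalComplex _).map f ≫ ε.hom
  have hf' : ∀ i, f'.f i = η'.app ((mapC E I).X i) := fun i => hη (I.X i)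
  have hKP : ∀ q, q ≤ n → P ((mapC E K).homology q) := fun q hq => by
    obtain ⟨e⟩ := nonempty_homology_mapC_iso adj T' hV hX R q hq
    exact P.prop_of_iso ((HomologicalComplex.homologyFunctor B _ q).mapIso ε ≪≫ e).symm
      (hT' _ hX q)
  have hI₀ : P ((mapC E I).homology 0) := P.prop_of_iso (homologyZeroResolution R).symm hX
  have hm : Mono (HomologicalComplex.homologyMap f' (n + 1)) := by
    have := mono_homologyMap_succ adj hgood hV f hI hK hI₀
      (isZero_homology_resolution_vn hV hX R) (R.cocomplex_exactAt_succ n).isZero_homology hKP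
    rw [HomologicalComplex.homologyMap_comp]
    have : IsIso (HomologicalComplex.homologyMap ε.hom (n + 1)) :=
      inferInstanceAs (IsIso ((HomologicalComplex.homologyFunctor B _ (n + 1)).map ε.hom))
    infer_instance
  obtain ⟨j, w, hj, hex⟩ := exists_edge_kernel (G := T') (K := mapC E I)
    (acyclic_of_injective T' _ fun i => haveI := hI i; injective_obj_of_adj adj _) n
    (fun q hq => isZero_homology_resolution_vn hV hX R q hq)
  have hedge := homologyMap_edge (mapC E I) T' η' n f' hf'
  let i := R.isoRightDerivedObj E (n + 1)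
  suffices h : ∀ x : Γ₀.obj ((mapC E I).homology (n + 1)), (r.app _).hom x = 0 → x = 0 by
    have hx := h ((Γ₀.map i.hom).hom s) (by
      refine (ConcreteCategory.congr_hom (r.naturality i.hom) s).trans ?_
      exact (congrArg (Γ₁.map i.hom).hom hs).trans (map_zero _))
    refine ((AddCommGrpCat.mono_iff_injective (Γ₀.map i.hom)).1 inferInstance) ?_
    exact hx.trans (map_zero _).symm
  intro x hx
  have : Γ₀.PreservesMonomorphisms := inferInstance
  refine ((AddCommGrpCat.mono_iff_injective (Γ₀.map (HomologicalComplex.homologyMap f' (n + 1)))).1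
    inferInstance) ?_
  refine Eq.trans ?_ (map_zero _).symm
  let t := (Γ₀.map (HomologicalComplex.homologyMap f' (n + 1))).hom x
  show t = 0
  have ht : (Γ₀.map (edge T' (mapC E I) n)).hom t = 0 := by
    show (Γ₀.map (HomologicalComplex.homologyMap f' (n + 1)) ≫ Γ₀.map (edge T' (mapC E I) n)).hom x = 0
    rw [← Γ₀.map_comp, hedge]
    exact hfac _ x hx
  have hexΓ := hex.map_of_mono_of_preservesKernel Γ₀ hj inferInstance
  obtain ⟨y, hy⟩ := (ShortComplex.ab_exact_iff _).1 hexΓ t ht
  have hy0 : y = 0 := by
    refine hinj _ (hT' _ (P.prop_of_iso (Iso.refl _) hI₀) (n + 1)) ?_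
    refine Eq.trans ?_ (map_zero _).symm
    have : Mono j := hj
    have h1 : (Γ₁.map j).hom ((r.app _).hom y) = 0 := by
      refine (ConcreteCategory.congr_hom (r.naturality j) y).symm.trans ?_
      refine (congrArg (r.app _).hom hy).trans ?_
      refine (ConcreteCategory.congr_hom (r.naturality (HomologicalComplex.homologyMap f' (n + 1))) x).trans ?_
      exact (congrArg (Γ₁.map (HomologicalComplex.homologyMap f' (n + 1))).hom hx).trans (map_zero _)
    exact (AddCommGrpCat.mono_iff_injective (Γ₁.map j)).1 inferInstance (h1.trans (map_zero _).symm)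
  rw [← hy, hy0]
  exact map_zero _

end Relocalisation

end Groth.Agent.CompareSit
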